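import Cfsg.Agent.H24.CharBasic

/-!
Products of two conjugates of one element, and the character criterion for them.
-/

set_option autoImplicit false
set_option linter.unusedSectionVars false

open Cfsg
open scoped ComplexConjugate

namespace H53.ReeSq

universe u

section Defs

variable {G : Type u} [Group G]

/-- `g` is a product of two conjugates of `x`. -/
def ProdTwo (x g : G) : Prop := ∃ u v : G, g = (u * x * u⁻¹) * (v * x * v⁻¹)

theorem ProdTwo.of_isConj {x a b g : G} (ha : IsConj x a) (hb : IsConj x b) (h : a * b = g) :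
    ProdTwo x g := by
  obtain ⟨u, hu⟩ := isConj_iff.1 ha
  obtain ⟨v, hv⟩ := isConj_iff.1 hb
  exact ⟨u, v, by rw [hu, hv, h]⟩

theorem ProdTwo.conj {x g : G} (h : ProdTwo x g) (c : G) : ProdTwo x (c * g * c⁻¹) := by
  obtain ⟨u, v, rfl⟩ := h
  exact ⟨c * u, c * v, by group⟩

theorem ProdTwo.of_conj {x g : G} {c : G} (h : ProdTwo x (c⁻¹ * g * c)) : ProdTwo x g := by
  have := h.conj c
  rwa [show c * (c⁻¹ * g * c) * c⁻¹ = g by group] at this

theorem ProdTwo.conj_left {x x' g : G} (hc : IsConj x x') (h : ProdTwo x' g) : ProdTwo x g := by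
  obtain ⟨u, v, rfl⟩ := h
  exact ProdTwo.of_isConj (hc.trans (isConj_iff.2 ⟨u, rfl⟩)) (hc.trans (isConj_iff.2 ⟨v, rfl⟩)) rfl

end Defs

variable {G : Type u} [Group G] [Fintype G]

theorem ProdTwo.of_classMult {x g : G} (h : H24.classMult x x g ≠ 0) : ProdTwo x g := by
  obtain ⟨⟨⟨a, b⟩, ha, hb, hab⟩⟩ := (Nat.card_ne_zero.1 h).1
  exact ProdTwo.of_isConj ha hb hab

theorem ProdTwo.of_sum {x g : G}
    (h : ∑ χ : IrrCharacter G,
      (χ : G → ℂ) x * (χ : G → ℂ) x * conj ((χ : G → ℂ) g) / (χ : G → ℂ) 1 ≠ 0) : ProdTwo x g := by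
  refine ProdTwo.of_classMult fun h0 => h ?_
  have e := H24.classMult_eq x x g
  rw [h0, Nat.cast_zero, zero_mul] at e
  rcases mul_eq_zero.1 e.symm with e1 | e1
  · exact absurd (Nat.cast_eq_zero.1 (mul_self_eq_zero.1 e1)) Subgroup.index_ne_zero_of_finite
  · exact e1

theorem sum_norm_sq (g : G) :
    ∑ χ : IrrCharacter G, ‖(χ : G → ℂ) g‖ ^ 2 =
      (Nat.card (Subgroup.centralizer ({g} : Set G)) : ℝ) := by
  classical
  have h := H12.column_orthogonality g g
  rw [if_pos (IsConj.refl g)] at h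
  apply Complex.ofReal_injective
  push_cast
  rw [← h]
  exact Finset.sum_congr rfl fun χ _ => (Complex.mul_conj' _).symm

theorem sum_norm_sq_erase [DecidableEq (IrrCharacter G)] (g : G) :
    ∑ χ ∈ (Finset.univ : Finset (IrrCharacter G)).erase (H12.oneIrr G), ‖(χ : G → ℂ) g‖ ^ 2 =
      (Nat.card (Subgroup.centralizer ({g} : Set G)) : ℝ) - 1 := by
  have h := sum_norm_sq g
  rw [← Finset.add_sum_erase _ _ (Finset.mem_univ (H12.oneIrr G)), H12.oneIrr_apply] at h
  simp only [norm_one, one_pow] at h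
  linarith

/-- If all nontrivial degrees are at least `d` and the column norms are small, `g` is a product. -/
theorem ProdTwo.of_bound {x g : G} {d : ℕ}
    (hd : ∀ χ : IrrCharacter G, χ ≠ H12.oneIrr G → d ≤ H12.degree (χ : G → ℂ))
    (h : ((Nat.card (Subgroup.centralizer ({x} : Set G)) : ℝ) - 1) ^ 2 *
      ((Nat.card (Subgroup.centralizer ({g} : Set G)) : ℝ) - 1) < (d : ℝ) ^ 2) : ProdTwo x g := by
  classical
  apply ProdTwo.of_sum
  intro h0
  set S := (Finset.univ : Finset (IrrCharacter G)).erase (H12.oneIrr G)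
  set T : ℂ := ∑ χ ∈ S, (χ : G → ℂ) x * (χ : G → ℂ) x * conj ((χ : G → ℂ) g) / (χ : G → ℂ) 1
  have hT : T = -1 := by
    rw [← Finset.add_sum_erase _ _ (Finset.mem_univ (H12.oneIrr G)), H12.oneIrr_apply,
      H12.oneIrr_apply, H12.oneIrr_apply, map_one] at h0
    rw [one_mul, one_mul, div_one] at h0
    exact eq_neg_of_add_eq_zero_right h0
  set A := ∑ χ ∈ S, (‖(χ : G → ℂ) x‖ ^ 2) * ‖(χ : G → ℂ) g‖ with hA
  have hdpos : (0 : ℝ) < d := by
    rcases Nat.eq_zero_or_pos d with h' | h'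
    · exfalso
      rw [h'] at h
      have hx := sum_norm_sq_erase x
      have hg := sum_norm_sq_erase g
      have : (0:ℝ) ≤ (Nat.card (Subgroup.centralizer ({g} : Set G)) : ℝ) - 1 := by
        rw [← hg]; positivity
      have := mul_nonneg (sq_nonneg ((Nat.card (Subgroup.centralizer ({x} : Set G)) : ℝ) - 1)) this
      simp only [Nat.cast_zero, zero_pow two_ne_zero] at h
      linarith
    · exact_mod_cast h'
  have h1 : (d : ℝ) ≤ A := by
    have e : ‖T‖ ≤ A / d := by
      rw [hA, Finset.sum_div]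
      refine (norm_sum_le _ _).trans (Finset.sum_le_sum fun χ hχ => ?_)
      have hdeg : (d : ℝ) ≤ (H12.degree (χ : G → ℂ) : ℝ) := by
        exact_mod_cast hd χ (Finset.ne_of_mem_erase hχ)
      rw [norm_div, norm_mul, norm_mul, RCLike.norm_conj, H12.irr_apply_one χ, Complex.norm_natCast,
        sq]
      exact div_le_div_of_nonneg_left (by positivity) hdpos hdeg
    rw [hT, norm_neg, norm_one, le_div_iff₀ hdpos, one_mul] at e
    exact e
  have h2 : A ^ 2 ≤ (∑ χ ∈ S, (‖(χ : G → ℂ) x‖ ^ 2) ^ 2) * ∑ χ ∈ S, ‖(χ : G → ℂ) g‖ ^ 2 :=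
    Finset.sum_mul_sq_le_sq_mul_sq S _ _
  have h3 : ∑ χ ∈ S, (‖(χ : G → ℂ) x‖ ^ 2) ^ 2 ≤ (∑ χ ∈ S, ‖(χ : G → ℂ) x‖ ^ 2) ^ 2 :=
    Finset.sum_sq_le_sq_sum_of_nonneg fun χ _ => by positivity
  rw [sum_norm_sq_erase] at h2 h3
  have hg0 : (0:ℝ) ≤ (Nat.card (Subgroup.centralizer ({g} : Set G)) : ℝ) - 1 := by
    rw [← sum_norm_sq_erase g]; positivity
  have h4 : (d : ℝ) ^ 2 ≤ A ^ 2 := by gcongr
  nlinarith [mul_le_mul_of_nonneg_right h3 hg0]

/-- A nontrivial irreducible character of a perfect group is not linear. -/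
theorem two_le_degree (hG : commutator G = ⊤) (χ : IrrCharacter G) (hχ : χ ≠ H12.oneIrr G) :
    2 ≤ H12.degree (χ : G → ℂ) := by
  have hpos := H12.irr_degree_pos χ
  by_contra hlt
  obtain ⟨n, ρ, hρ, hχe⟩ := χ.2
  have hn : n = 1 := by
    have h1 := congrFun hχe 1
    rw [Representation.char_one, Module.finrank_fin_fun, H12.irr_apply_one χ] at h1
    have : n = H12.degree (χ : G → ℂ) := by exact_mod_cast h1
    omega
  subst hn
  have hcomm : ∀ f g : Module.End ℂ (Fin 1 → ℂ), f * g = g * f := by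
    intro f g
    apply (LinearMap.toMatrixAlgEquiv' (R := ℂ) (n := Fin 1)).injective
    rw [map_mul, map_mul]
    ext i j
    fin_cases i; fin_cases j
    simp [Matrix.mul_apply, mul_comm]
  have hρ1 : ∀ g, ρ g = 1 := by
    intro g
    have hk : commutator G ≤ MonoidHom.ker (show G →* Module.End ℂ (Fin 1 → ℂ) from ρ) := by
      rw [commutator_eq_closure, Subgroup.closure_le]
      rintro c ⟨a, b, rfl⟩
      rw [SetLike.mem_coe, MonoidHom.mem_ker]
      show ρ (a * b * a⁻¹ * b⁻¹) = 1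
      rw [map_mul, map_mul, map_mul, hcomm (ρ a) (ρ b), mul_assoc (ρ b), ← map_mul ρ a,
        mul_inv_cancel, map_one, mul_one, ← map_mul, mul_inv_cancel, map_one]
    exact hk (hG ▸ Subgroup.mem_top g)
  apply hχ
  apply Subtype.ext
  funext g
  rw [← hχe, H12.oneIrr_apply]
  simp [Representation.character, hρ1 g]

end H53.ReeSq
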