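import Cfsg.Agent.H52.ReeSingerTori
import Cfsg.Agent.H52.ReeRep

/-!
Centraliser orders in a small Ree group.
-/

set_option autoImplicit false
set_option linter.unusedSectionVars false

open Cfsg

namespace H53.ReeSq

open H52.Ree2 Cfsg.Lie

theorem card_le_of_cover {G α : Type*} [Finite α] (S : Set G) (φ : α → G)
    (h : ∀ g ∈ S, ∃ a, φ a = g) : Nat.card S ≤ Nat.card α :=
  Nat.card_le_card_of_injective (fun g : S => (h g.1 g.2).choose) fun g g' e => Subtype.ext (by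
    rw [← (h g.1 g.2).choose_spec, ← (h g'.1 g'.2).choose_spec]
    exact congrArg φ e)

variable {K : Type*} [Field K] [Fintype K] {m : ℕ} (hK : Fintype.card K = 3 ^ (2 * m + 1))
include hK

theorem mem_U_exists {g : ↥(RG K m)} (hg : (g : GL chevG2.Idx K) ∈ RU K m) :
    ∃ t u v, g = uG hK t u v := by
  obtain ⟨t, u, v, h⟩ := exists_uW hK hg
  exact ⟨t, u, v, Subtype.ext h⟩

theorem mem_B_exists {g : ↥(RG K m)} (hg : g ∈ RBsub K m) :
    ∃ t u v a, g = uG hK t u v * hG hK a := by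
  obtain ⟨x, hx, h, hh, e⟩ := exists_UH hK (Subgroup.mem_subgroupOf.1 hg)
  obtain ⟨t, u, v, rfl⟩ := exists_uW hK hx
  obtain ⟨a, rfl⟩ := exists_hA hK hh
  exact ⟨t, u, v, a, Subtype.ext e⟩

theorem uG_inj {t u v t' u' v' : K} : uG hK t u v = uG hK t' u' v' ↔ t = t' ∧ u = u' ∧ v = v' := by
  rw [Subtype.ext_iff]; exact uW_inj hK

theorem uG_eq_one {t u v : K} : uG hK t u v = 1 ↔ t = 0 ∧ u = 0 ∧ v = 0 := by
  rw [Subtype.ext_iff, OneMemClass.coe_one]
  show uW m t u v = 1 ↔ _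
  rw [← uW_zero hK, uW_inj hK]

theorem uG_mul (t u v t' u' v' : K) : uG hK t u v * uG hK t' u' v' =
    uG hK (t + t') (u + u' - t * t' ^ (3 ^ (m + 1)))
      (v + v' - u * t' + t * t' ^ (3 ^ (m + 1)) * t' - t ^ 2 * t' ^ (3 ^ (m + 1))) :=
  Subtype.ext (uW_mul hK t u v t' u' v')

theorem hG_conj (a : Kˣ) (t u v : K) : hG hK a * uG hK t u v = uG hK ((a : K) ^ (3 ^ (m + 1)) * t)
    ((a : K) ^ (3 + 3 ^ (m + 1)) * u) ((a : K) ^ (3 + 2 * 3 ^ (m + 1)) * v) * hG hK a := by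
  apply Subtype.ext
  rw [Subgroup.coe_mul, Subgroup.coe_mul]
  exact mul_inv_eq_iff_eq_mul.1 (hA_conj hK a t u v)

theorem hG_one : hG hK 1 = 1 := Subtype.ext (hA_one hK)

theorem hG_mul (a b : Kˣ) : hG hK a * hG hK b = hG hK (a * b) :=
  Subtype.ext (hA_mul hK a b).symm

theorem jG_eq : jG hK = hG hK (-1) := rfl

theorem uG_commute_j (u : K) : uG hK 0 u 0 * jG hK = jG hK * uG hK 0 u 0 := by
  have h := jR_conj_uW hK 0 u 0
  rw [neg_zero, mul_inv_eq_iff_eq_mul] at h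
  exact Subtype.ext h.symm

theorem uG_pow_nine (t u v : K) : uG hK t u v ^ 9 = 1 :=
  Subtype.ext ((SubgroupClass.coe_pow _ _).trans (uW_nine hK (uW_mem_U hK t u v)))

theorem uG_cube_eq_one {t u v : K} : uG hK t u v ^ 3 = 1 ↔ t = 0 := by
  rw [pow_succ, sq, Subtype.ext_iff]
  exact uW_sq_ne hK

/-- The equations for a centraliser of an element of `U`. -/
theorem cent_coords {t u v : K} (hne : uG hK t u v ≠ 1) {g : ↥(RG K m)}
    (hg : g * uG hK t u v = uG hK t u v * g) :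
    ∃ t' u' v' a, g = uG hK t' u' v' * hG hK a ∧
      (let r := 3 ^ (m + 1)
       let X := (a : K) ^ r * t
       let Y := (a : K) ^ (3 + r) * u
       let Z := (a : K) ^ (3 + 2 * r) * v
       X = t ∧ u' + Y - t' * X ^ r = u + u' - t * t' ^ r ∧
       v' + Z - u' * X + t' * X ^ r * X - t' ^ 2 * X ^ r =
        v + v' - u * t' + t * t' ^ r * t' - t ^ 2 * t' ^ r) := by
  have hB : g ∈ RBsub K m := B_of_U_fusion hK g (uG hK t u v) (uW_mem_U hK t u v) hne (by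
    rw [hg, mul_inv_cancel_right]
    exact uW_mem_U hK t u v)
  obtain ⟨t', u', v', a, rfl⟩ := mem_B_exists hK hB
  rw [mul_assoc, hG_conj, ← mul_assoc, ← mul_assoc, mul_left_inj, uG_mul, uG_mul, uG_inj] at hg
  exact ⟨t', u', v', a, rfl, by linear_combination hg.1, hg.2.1, hg.2.2⟩

theorem units_cases {a : Kˣ} (h : a ^ 2 = 1) : a = 1 ∨ a = -1 := by
  rcases sq_eq_one_iff.1 (show (a : K) ^ 2 = 1 by rw [← Units.val_pow_eq_pow_val, h]; rfl) with h' | h'
  · exact Or.inl (Units.ext h')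
  · exact Or.inr (Units.ext (by simpa using h'))

theorem card_K : Nat.card K = 3 ^ (2 * m + 1) := by rw [Nat.card_eq_fintype_card, hK]

theorem pow_unit_eq_one {a : Kˣ} {n : ℕ} {x : K} (e : (a : K) ^ n * x = x) (hx : x ≠ 0) :
    a ^ n = 1 := Units.ext (by simpa [hx] using e)

theorem cent_nine {t u v : K} (ht : t ≠ 0) :
    Nat.card ↥(Subgroup.centralizer {uG hK t u v}) ≤ 3 * 3 ^ (2 * m + 1) := by
  classical
  have hne : uG hK t u v ≠ 1 := fun h => ht ((uG_eq_one hK).1 h).1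
  set r := 3 ^ (m + 1) with hr
  let s : Fin 3 → K := ![0, 1, -1]
  let φ : Fin 3 × K → ↥(RG K m) := fun p =>
    let t' := s p.1 * t
    uG hK t' ((t' * t ^ r * t - t' ^ 2 * t ^ r + u * t' - t * t' ^ r * t' + t ^ 2 * t' ^ r) / t) p.2
  have h := card_le_of_cover (Subgroup.centralizer {uG hK t u v} : Set ↥(RG K m)) φ fun g hg => by
    obtain ⟨t', u', v', a, rfl, h1, h2, h3⟩ :=
      cent_coords hK hne (Subgroup.mem_centralizer_singleton_iff.1 hg)
    have ha : a = 1 := units_pow_r_one hK (pow_unit_eq_one hK h1 ht)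
    subst ha
    simp only [Units.val_one, one_pow, one_mul] at h2 h3
    rw [← hr] at h2 h3
    have e : t' * t ^ r = t * t' ^ r := by linear_combination -h2
    have es : (t' / t) ^ r = t' / t := by
      rw [div_pow, div_eq_div_iff (pow_ne_zero _ ht) ht]
      linear_combination -e
    have e3 : (t' / t) ^ 3 = t' / t := by
      rw [← pow_r_r hK (t' / t), ← hr, es, es]
    obtain ⟨i, hi⟩ : ∃ i, t' / t = s i := by
      have : (t' / t) * ((t' / t - 1) * (t' / t + 1)) = 0 := by linear_combination e3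
      rcases mul_eq_zero.1 this with h | h
      · exact ⟨0, by simpa [s] using h⟩
      rcases mul_eq_zero.1 h with h | h
      · exact ⟨1, by simpa [s] using sub_eq_zero.1 h⟩
      · exact ⟨2, by simpa [s] using eq_neg_of_add_eq_zero_left h⟩
    have et : s i * t = t' := by rw [← hi, div_mul_cancel₀ _ ht]
    refine ⟨(i, v'), ?_⟩
    simp only [φ, et]
    rw [hG_one, mul_one, uG_inj]
    refine ⟨rfl, ?_, rfl⟩
    rw [div_eq_iff ht]
    linear_combination h3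
  simpa [Nat.card_prod, card_K hK, hK] using h

theorem cent_u {u v : K} (hu : u ≠ 0) :
    Nat.card ↥(Subgroup.centralizer {uG hK 0 u v}) ≤ 2 * (3 ^ (2 * m + 1)) ^ 2 := by
  classical
  have hne : uG hK 0 u v ≠ 1 := fun h => hu ((uG_eq_one hK).1 h).2.1
  set r := 3 ^ (m + 1) with hr
  let s : Fin 2 → Kˣ := ![1, -1]
  let φ : Fin 2 × (K × K) → ↥(RG K m) := fun p =>
    uG hK ((v - (s p.1 : K) ^ (3 + 2 * r) * v) / u) p.2.1 p.2.2 * hG hK (s p.1)
  have h := card_le_of_cover (Subgroup.centralizer {uG hK 0 u v} : Set ↥(RG K m)) φ fun g hg => by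
    obtain ⟨t', u', v', a, rfl, h1, h2, h3⟩ :=
      cent_coords hK hne (Subgroup.mem_centralizer_singleton_iff.1 hg)
    have hr0 : (0 : K) ^ r = 0 := zero_pow (by positivity)
    simp only [mul_zero, hr0, zero_mul, sub_zero, add_zero, zero_pow two_ne_zero, ← hr] at h2 h3
    have ha := units_cases hK (units_pow_u hK (pow_unit_eq_one hK (x := u) (by
      rw [← hr]; linear_combination h2) hu))
    obtain ⟨i, rfl⟩ : ∃ i, s i = a := by
      rcases ha with rfl | rfl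
      · exact ⟨0, rfl⟩
      · exact ⟨1, rfl⟩
    refine ⟨(i, (u', v')), ?_⟩
    simp only [φ]
    congr 1
    rw [uG_inj]
    exact ⟨by rw [div_eq_iff hu]; linear_combination -h3, rfl, rfl⟩
  simpa [Nat.card_prod, card_K hK, hK, sq] using h

theorem cent_v {v : K} (hv : v ≠ 0) {g : ↥(RG K m)} (hg : g * uG hK 0 0 v = uG hK 0 0 v * g) :
    ∃ t' u' v', g = uG hK t' u' v' := by
  have hne : uG hK 0 0 v ≠ 1 := fun h => hv ((uG_eq_one hK).1 h).2.2
  obtain ⟨t', u', v', a, rfl, h1, h2, h3⟩ := cent_coords hK hne hg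
  have hr0 : (0 : K) ^ (3 ^ (m + 1)) = 0 := zero_pow (by positivity)
  simp only [mul_zero, hr0, zero_mul, sub_zero, add_zero, zero_pow two_ne_zero] at h3
  have ha : a = 1 := units_pow_v hK (pow_unit_eq_one hK (x := v) (by linear_combination h3) hv)
  exact ⟨t', u', v', by rw [ha, hG_one, mul_one]⟩

theorem cent_v_card {v : K} (hv : v ≠ 0) :
    Nat.card ↥(Subgroup.centralizer {uG hK 0 0 v}) ≤ (3 ^ (2 * m + 1)) ^ 3 := by
  classical
  have h := card_le_of_cover (Subgroup.centralizer {uG hK 0 0 v} : Set ↥(RG K m))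
    (fun p : K × (K × K) => uG hK p.1 p.2.1 p.2.2) fun g hg => by
      obtain ⟨t', u', v', rfl⟩ := cent_v hK hv (Subgroup.mem_centralizer_singleton_iff.1 hg)
      exact ⟨(t', u', v'), rfl⟩
  refine le_trans h ?_
  simp only [Nat.card_prod, card_K hK]
  exact le_of_eq (by ring)

theorem card_cent_conj {g c : ↥(RG K m)} : Nat.card ↥(Subgroup.centralizer {c * g * c⁻¹}) =
    Nat.card ↥(Subgroup.centralizer {g}) := card_centralizer_conj c g

theorem three_cases {g : ↥(RG K m)} (hg : orderOf g = 3) :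
    ∃ c : ↥(RG K m), c * g * c⁻¹ = uG hK 0 0 1 ∨ ∃ u, u ≠ 0 ∧ c * g * c⁻¹ = uG hK 0 u 0 := by
  have h3 : g ^ 3 = 1 := hg ▸ pow_orderOf_eq_one g
  obtain ⟨k, hk⟩ := nine_conj_U hK (x := g) (by rw [show 9 = 3 * 3 from rfl, pow_mul, h3, one_pow])
  obtain ⟨t, u, v, e⟩ := mem_U_exists hK hk
  have h3' : (k⁻¹ * g * k) ^ 3 = 1 := by
    rw [← hg, ← orderOf_conj_inv hK k g]; exact pow_orderOf_eq_one _
  rw [e, uG_cube_eq_one] at h3'
  subst h3'
  have hne : uG hK (0 : K) u v ≠ 1 := fun h => by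
    rw [← e] at h
    have := congrArg orderOf h
    rw [orderOf_conj_inv hK, hg, orderOf_one] at this
    omega
  by_cases hu : u = 0
  · subst hu
    have hv : v ≠ 0 := fun h => hne ((uG_eq_one hK).2 ⟨rfl, rfl, h⟩)
    have hb : Function.Bijective fun a : Kˣ => a ^ (3 + 2 * 3 ^ (m + 1)) := by
      refine Finite.injective_iff_bijective.1 fun a b hab => ?_
      replace hab : a ^ (3 + 2 * 3 ^ (m + 1)) = b ^ (3 + 2 * 3 ^ (m + 1)) := hab
      refine mul_inv_eq_one.1 (units_pow_v hK ?_)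
      rw [mul_pow, inv_pow, hab, mul_inv_cancel]
    obtain ⟨a, ha⟩ := hb.2 (Units.mk0 v hv)⁻¹
    refine ⟨hG hK a * k⁻¹, Or.inl ?_⟩
    rw [show hG hK a * k⁻¹ * g * (hG hK a * k⁻¹)⁻¹ = hG hK a * (k⁻¹ * g * k) * (hG hK a)⁻¹ by group,
      e, hG_conj, mul_inv_cancel_right, uG_inj]
    refine ⟨mul_zero _, mul_zero _, ?_⟩
    have := congrArg Units.val ha
    simp only [Units.val_pow_eq_pow_val, Units.val_inv_eq_inv_val, Units.val_mk0] at this
    rw [this, inv_mul_cancel₀ hv]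
  · refine ⟨uG hK (-v / u) 0 0 * k⁻¹, Or.inr ⟨u, hu, ?_⟩⟩
    rw [show uG hK (-v / u) 0 0 * k⁻¹ * g * (uG hK (-v / u) 0 0 * k⁻¹)⁻¹ =
      uG hK (-v / u) 0 0 * (k⁻¹ * g * k) * (uG hK (-v / u) 0 0)⁻¹ by group, e, mul_inv_eq_iff_eq_mul,
      uG_mul, uG_mul, uG_inj]
    have hr0 : (0 : K) ^ (3 ^ (m + 1)) = 0 := zero_pow (by positivity)
    refine ⟨by ring, by simp [hr0], ?_⟩
    rw [hr0]
    field_simp
    ring

theorem cent_three {g : ↥(RG K m)} (hg : orderOf g = 3) :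
    Nat.card ↥(Subgroup.centralizer {g}) ≤ (3 ^ (2 * m + 1)) ^ 3 := by
  obtain ⟨c, hc⟩ := three_cases hK hg
  rw [← card_cent_conj hK (c := c)]
  rcases hc with e | ⟨u, hu, e⟩ <;> rw [e]
  · exact cent_v_card hK one_ne_zero
  · refine (cent_u hK hu).trans ?_
    have : 2 ≤ 3 ^ (2 * m + 1) := le_trans (by norm_num) (Nat.le_self_pow (by omega) 3)
    rw [pow_succ (3 ^ (2 * m + 1)) 2, mul_comm ((3 ^ (2 * m + 1)) ^ 2)]
    exact Nat.mul_le_mul_right _ this

theorem cent_two (hm : 1 ≤ m) {g : ↥(RG K m)} (hg : orderOf g = 2) :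
    Nat.card ↥(Subgroup.centralizer {g}) = 3 ^ (2 * m + 1) * ((3 ^ (2 * m + 1)) ^ 2 - 1) := by
  obtain ⟨c, hc⟩ := involution_conj hK hm (x := g) (fun h => by simp [h] at hg)
    (by rw [← sq, ← hg]; exact pow_orderOf_eq_one g)
  rw [← hc, card_cent_conj hK, card_centralizer_j hK]

theorem cent_six {g : ↥(RG K m)} (hg : orderOf g = 6) :
    Nat.card ↥(Subgroup.centralizer {g}) ≤ 2 * 3 ^ (2 * m + 1) := by
  classical
  have h2 : orderOf (g ^ 2) = 3 := by rw [orderOf_pow, hg]; rfl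
  obtain ⟨c, hc⟩ := three_cases hK h2
  rw [← card_cent_conj hK (c := c)]
  have ho : orderOf (c * g * c⁻¹) = 6 := by
    rw [show c * g * c⁻¹ = c⁻¹⁻¹ * g * c⁻¹ by group, orderOf_conj_inv hK, hg]
  rw [← conj_pow_eq c g 2] at hc
  generalize c * g * c⁻¹ = x at ho hc ⊢
  have hx3 : ¬ (x ^ 3) ^ 9 = 1 := fun h => by
    rw [← pow_mul] at h
    have := orderOf_dvd_of_pow_eq_one h
    rw [ho] at this
    omega
  have hc3 : x ^ 3 * x ^ 2 = x ^ 2 * x ^ 3 := by rw [← pow_add, ← pow_add]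
  rcases hc with e | ⟨u, hu, e⟩
  · exfalso
    rw [e] at hc3
    obtain ⟨a, b, d, h⟩ := cent_v hK one_ne_zero hc3
    exact hx3 (h ▸ uG_pow_nine hK a b d)
  have hform : ∀ y : ↥(RG K m), y * x ^ 2 = x ^ 2 * y →
      ∃ u' v' a, (a = 1 ∨ a = -1) ∧ y = uG hK 0 u' v' * hG hK a := by
    intro y hy
    rw [e] at hy
    have hne : uG hK (0 : K) u 0 ≠ 1 := fun h => hu ((uG_eq_one hK).1 h).2.1
    obtain ⟨t', u', v', a, rfl, h1, h2, h3⟩ := cent_coords hK hne hy
    have hr0 : (0 : K) ^ (3 ^ (m + 1)) = 0 := zero_pow (by positivity)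
    simp only [mul_zero, hr0, zero_mul, sub_zero, add_zero, zero_pow two_ne_zero, zero_add] at h2 h3
    have ht : t' = 0 := by
      have : u * t' = 0 := by linear_combination h3
      exact (mul_eq_zero.1 this).resolve_left hu
    subst ht
    exact ⟨u', v', a, units_cases hK (units_pow_u hK (pow_unit_eq_one hK (x := u)
      (by linear_combination h2) hu)), rfl⟩
  obtain ⟨u0, v0, a0, ha0, hk⟩ := hform _ hc3
  have ha0' : a0 = -1 := ha0.resolve_left fun h => hx3 (by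
    rw [hk, h, hG_one, mul_one]; exact uG_pow_nine hK _ _ _)
  subst ha0'
  have hodd : Odd (3 ^ (m + 1)) := (show Odd 3 by decide).pow
  have he : Even (3 + 3 ^ (m + 1)) := (show Odd 3 by decide).add_odd hodd
  have hov : Odd (3 + 2 * 3 ^ (m + 1)) := (show Odd 3 by decide).add_even (even_two_mul _)
  have hsw : ∀ (b : Kˣ) (p w : K), b = 1 ∨ b = -1 →
      hG hK b * uG hK 0 p w = uG hK 0 p ((b : K) * w) * hG hK b := by
    intro b p w hb
    rw [hG_conj]
    rcases hb with rfl | rfl <;> simp [he.neg_one_pow, hov.neg_one_pow]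
  let s : Fin 2 → Kˣ := ![1, -1]
  let φ : Fin 2 × K → ↥(RG K m) := fun p =>
    uG hK 0 p.2 (((s p.1 : K) - 1) * v0) * hG hK (s p.1)
  have h := card_le_of_cover (Subgroup.centralizer {x} : Set ↥(RG K m)) φ fun y hy => by
    have hyx : Commute y x := Subgroup.mem_centralizer_singleton_iff.1 hy
    obtain ⟨u', v', a, ha, rfl⟩ := hform y (hyx.pow_right 2).eq
    have hyk := (hyx.pow_right 3).eq
    rw [hk, mul_assoc, ← mul_assoc (hG hK a), hsw a _ _ ha, mul_assoc (uG hK 0 u0 v0),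
      ← mul_assoc (hG hK (-1)), hsw (-1) _ _ (Or.inr rfl)] at hyk
    simp only [← mul_assoc, uG_mul] at hyk
    rw [mul_assoc _ (hG hK a) (hG hK (-1)), mul_assoc _ (hG hK (-1)) (hG hK a), hG_mul, hG_mul, mul_comm (-1 : Kˣ) a, mul_left_inj, uG_inj] at hyk
    obtain ⟨-, -, h3⟩ := hyk
    have hr0 : (0 : K) ^ (3 ^ (m + 1)) = 0 := zero_pow (by positivity)
    simp only [Units.val_neg, Units.val_one, hr0, zero_mul, mul_zero, sub_zero, add_zero,
      zero_pow two_ne_zero] at h3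
    obtain ⟨i, hi⟩ : ∃ i, s i = a := by
      rcases ha with rfl | rfl
      · exact ⟨0, rfl⟩
      · exact ⟨1, rfl⟩
    refine ⟨(i, u'), ?_⟩
    simp only [φ, hi]
    congr 1
    rw [uG_inj]
    refine ⟨rfl, rfl, ?_⟩
    linear_combination h3 - v' * three_eq_zero hK
  simpa [Nat.card_prod, card_K hK, hK] using h

/-- The semisimple elements of order at least three. -/
theorem ss_cases (hm : 1 ≤ m) {g : ↥(RG K m)} (h1 : orderOf g ≠ 1) (h2 : orderOf g ≠ 2)
    (h9 : ¬ orderOf g ∣ 9) (h6 : orderOf g ≠ 6) :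
    (∃ c, c⁻¹ * g * c ∈ HG K m ∧ g * g ≠ 1) ∨ (∃ c, c⁻¹ * g * c ∈ L0 hK ∧ g * g ≠ 1) ∨
      (g ^ qN m = 1 ∧ g ≠ 1) := by
  obtain ⟨-, hq2, -, hoh, -, -, -, -⟩ := q_arith m
  rcases order_cases hK hm g with h | h | h | h | ⟨h, hn⟩ | ⟨h, hn⟩ | ⟨h, hn⟩
  · exact absurd h h1
  · exact absurd h h2
  · exact absurd h.1 h9
  · exact absurd h h6
  · obtain ⟨s, hs, hsg, hsq⟩ := odd_prime_of_two_mul hK (hq2 ▸ h) hn
    obtain ⟨c, hc⟩ := conj_HG hK hs (hoh.of_dvd_nat hsq) hsq hsg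
    exact Or.inl ⟨c, hc, (sq_ne_iff hK).1 hn⟩
  · obtain ⟨s, hs, hsg, hsq⟩ := odd_prime_of_two_mul hK h hn
    obtain ⟨c, hc⟩ := conj_L0 hK hm hs hsq hsg
    exact Or.inr (Or.inl ⟨c, hc, (sq_ne_iff hK).1 hn⟩)
  · exact Or.inr (Or.inr ⟨orderOf_dvd_iff_pow_eq_one.1 h, fun e => hn (orderOf_eq_one_iff.2 e)⟩)

theorem card_centralizer_conj_inv (g c : ↥(RG K m)) : Nat.card ↥(Subgroup.centralizer {c⁻¹ * g * c}) =
    Nat.card ↥(Subgroup.centralizer {g}) := by
  rw [show c⁻¹ * g * c = c⁻¹ * g * c⁻¹⁻¹ by group, card_cent_conj hK]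

theorem cent_HG {g c : ↥(RG K m)} (hc : c⁻¹ * g * c ∈ HG K m) (h : g * g ≠ 1) :
    Nat.card ↥(Subgroup.centralizer {g}) = 3 ^ (2 * m + 1) - 1 := by
  rw [← card_centralizer_conj_inv hK g c, centralizer_HG hK hc, (HG_cyclic hK).2]
  rw [show c⁻¹ * g * c * (c⁻¹ * g * c) = c⁻¹ * (g * g) * c by group]
  exact fun e => h ((conj_eq_one' hK).1 e)

theorem cent_L0 (hm : 1 ≤ m) {g c : ↥(RG K m)} (hc : c⁻¹ * g * c ∈ L0 hK) (h : g * g ≠ 1) :
    Nat.card ↥(Subgroup.centralizer {g}) = 3 ^ (2 * m + 1) + 1 := by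
  rw [← card_centralizer_conj_inv hK g c, centralizer_L0 hK hm hc, L0_card hK, (q_arith m).1]
  rw [show c⁻¹ * g * c * (c⁻¹ * g * c) = c⁻¹ * (g * g) * c by group]
  exact fun e => h ((conj_eq_one' hK).1 e)

theorem cent_qN (hm : 1 ≤ m) {g : ↥(RG K m)} (hg : g ^ qN m = 1) (hg1 : g ≠ 1) :
    Nat.card ↥(Subgroup.centralizer {g}) = 3 ^ (2 * m + 1) - rr m + 1 ∨
      Nat.card ↥(Subgroup.centralizer {g}) = 3 ^ (2 * m + 1) + rr m + 1 := by
  obtain ⟨g₁, g₂, a1, b1, a2, b2, c1, c2, -, -, hcov⟩ := exists_tori hK hm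
  have key : ∀ g₀ : ↥(RG K m), g₀ ^ qN m = 1 → g₀ ≠ 1 → InClass (Subgroup.centralizer {g₀}) g →
      Nat.card ↥(Subgroup.centralizer {g}) = Nat.card ↥(Subgroup.centralizer {g₀}) := by
    intro g₀ a b ⟨_, k, hk⟩
    rw [← card_centralizer_conj_inv hK g k,
      (centralizer_qN hK hm a b).2.2 _ hk (fun e => hg1 ((conj_eq_one' hK).1 e))]
  rcases hcov g hg hg1 with h | h
  · exact Or.inl (by rw [key g₁ a1 b1 h, c1])
  · exact Or.inr (by rw [key g₂ a2 b2 h, c2])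

/-- Away from orders 1, 2 and 3 the centraliser has order at most `3q`. -/
theorem cent_small (hm : 1 ≤ m) {g : ↥(RG K m)} (h1 : orderOf g ≠ 1) (h2 : orderOf g ≠ 2)
    (h3 : orderOf g ≠ 3) : Nat.card ↥(Subgroup.centralizer {g}) ≤ 3 * 3 ^ (2 * m + 1) := by
  obtain ⟨-, hrq, hq27⟩ := rr_facts m hm
  by_cases h6 : orderOf g = 6
  · exact (cent_six hK h6).trans (by omega)
  by_cases h9 : orderOf g ∣ 9
  · obtain ⟨k, hk⟩ := nine_conj_U hK (x := g) (orderOf_dvd_iff_pow_eq_one.1 h9)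
    obtain ⟨t, u, v, e⟩ := mem_U_exists hK hk
    have ht : t ≠ 0 := fun ht => by
      have h := (uG_cube_eq_one hK (t := t) (u := u) (v := v)).2 ht
      rw [← e] at h
      have := orderOf_dvd_of_pow_eq_one h
      rw [orderOf_conj_inv hK] at this
      rcases (Nat.dvd_prime Nat.prime_three).1 this with h' | h'
      · exact h1 h'
      · exact h3 h'
    rw [← card_centralizer_conj_inv hK g k, e]
    exact cent_nine hK ht
  rcases ss_cases hK hm h1 h2 h9 h6 with ⟨c, hc, h⟩ | ⟨c, hc, h⟩ | ⟨hg, hg1⟩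
  · rw [cent_HG hK hc h]; omega
  · rw [cent_L0 hK hm hc h]; omega
  · rcases cent_qN hK hm hg hg1 with h | h <;> rw [h] <;> omega

end H53.ReeSq
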