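import Cfsg.Agent.H53.ReeSq.Basic
import Cfsg.Agent.H52.ReeRep

/-!
The least nontrivial degree of a small Ree group.
-/

set_option autoImplicit false
set_option linter.unusedSectionVars false

open Cfsg

namespace H53.ReeSq

open H52.Ree2

variable {K : Type*} [Field K] [Fintype K] {m : ℕ}

theorem degree_ge [Fintype ↥(RG K m)] (hK : Fintype.card K = 3 ^ (2 * m + 1)) (hm : 1 ≤ m)
    (χ : IrrCharacter ↥(RG K m)) (hχ : χ ≠ H12.oneIrr ↥(RG K m)) :
    (3 ^ (2 * m + 1)) ^ 2 - 3 ^ (2 * m + 1) + 1 ≤ H12.degree (χ : ↥(RG K m) → ℂ) := by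
  have h2 := two_le_degree (perfect hK hm) χ hχ
  obtain ⟨n, ρ, hρ, hχe⟩ := χ.2
  have h1 := congrFun hχe 1
  rw [Representation.char_one, Module.finrank_fin_fun, H12.irr_apply_one χ] at h1
  have hn : n = H12.degree (χ : ↥(RG K m) → ℂ) := by exact_mod_cast h1
  rw [← hn] at h2 ⊢
  exact degree_bound hK hm ρ hρ h2

end H53.ReeSq
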