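import Cfsg.Agent.H22.SC.Exc
import Cfsg.Agent.H24.CharBasic
import Cfsg.Agent.H53.ReeSq.Basic

/-!
Exceptional characters of a strongly self-centralising subgroup with arbitrary automiser order,
their divisibility and cusp properties, and a product criterion.
-/

set_option autoImplicit false
set_option linter.unusedSectionVars false
set_option linter.unusedVariables false
set_option linter.style.haveILetI false

open Cfsg
open scoped ComplexConjugate Pointwise
open H22.SC (Ssc InA not_inA_one ind_sub_eq_zero res_eq_sum)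

namespace H53.ReeSq

universe u

variable {G : Type u} [Group G] [Fintype G] {A : Subgroup G}

/-- The exceptional characters of a strongly self-centralising subgroup. -/
structure Exc (A : Subgroup G) (e : ℕ) where
  m : ℕ
  two_le : 2 ≤ m
  card_eq : Nat.card A = e * m + 1
  mu : Fin m → IrrCharacter G
  mu_inj : Function.Injective mu
  eps : ℤ
  eps_cases : eps = 1 ∨ eps = -1
  a : ℤ
  b : IrrCharacter G → ℤ
  b_mu : ∀ s, b (mu s) = 0
  b_one : b (H12.oneIrr G) = 1
  one_ne : ∀ s, mu s ≠ H12.oneIrr G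
  val : ∀ χ, (∀ s, χ ≠ mu s) → ∀ x ∈ A, x ≠ 1 → (χ : G → ℂ) x = b χ
  sum_val : ∀ x ∈ A, x ≠ 1 → ∑ s, (mu s : G → ℂ) x = ((m : ℤ) * a - eps : ℤ)
  nonconst : ∀ s, ∀ β : ℂ, ∃ x ∈ A, x ≠ 1 ∧ (mu s : G → ℂ) x ≠ β
  distinct : ∀ s t, s ≠ t → ∃ x ∈ A, x ≠ 1 ∧ (mu s : G → ℂ) x ≠ (mu t : G → ℂ) x
  norm : ∑ χ, b χ ^ 2 + ((a - eps) ^ 2 + ((m : ℤ) - 1) * a ^ 2) = (e : ℤ) + 1
  const : ∀ g, ¬ InA A g → ∀ s t, (mu s : G → ℂ) g = (mu t : G → ℂ) g
  rel : ∀ g, ¬ InA A g → ∀ s,
    ∑ χ, (b χ : ℂ) * (χ : G → ℂ) g + ((m : ℤ) * a - eps : ℤ) * (mu s : G → ℂ) g = 0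

set_option maxHeartbeats 1600000 in
theorem exists_exc (hA : Ssc A) {e : ℕ} (he : 1 ≤ e)
    (hN : A.relIndex (Subgroup.normalizer (A : Set G)) = e) (hn : e + 1 < Nat.card A) :
    Nonempty (Exc A e) := by
  classical
  haveI := hA.isMulCommutative
  have hH := hA.hyp
  haveI : Finite (A →* ℂˣ) := Nat.finite_of_card_ne_zero (by
    rw [H12.card_monoidHom_units]; exact Subgroup.index_ne_zero_of_finite)
  haveI := Fintype.ofFinite (A →* ℂˣ)
  have hcom : (commutator A).index = Nat.card A := by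
    letI : CommGroup A := { (inferInstance : Group A) with mul_comm := mul_comm' }
    rw [(commutator_eq_bot_iff_center_eq_top _).2 CommGroup.center_eq_top, Subgroup.index_bot]
  obtain ⟨F⟩ := H13.TI.exists_family hH (by omega)
  have hcard : Nat.card A = e * F.w + 1 := by rw [← hcom, F.card_eq, hN]
  have hw : 2 ≤ F.w := by
    rcases Nat.lt_or_ge F.w 2 with h | h
    · exfalso
      have : e * F.w ≤ e * 1 := Nat.mul_le_mul_left e (by omega)
      omega
    · exact h
  obtain ⟨ε, hεc, hεF⟩ : ∃ ε : ℤ, (ε = 1 ∨ ε = -1) ∧ F.eps = (ε : ℂ) := by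
    rcases F.eps_sq with h | h
    · exact ⟨1, Or.inl rfl, by simp [h]⟩
    · exact ⟨-1, Or.inr rfl, by simp [h]⟩
  have hεsq : ε * ε = 1 := by rcases hεc with rfl | rfl <;> rfl
  set D : IrrCharacter G → Fin F.w → ℤ := fun χ s =>
    (H13.TI.coef χ (1 : A →* ℂˣ) : ℤ) - H13.TI.coef χ (F.rep s) with hD
  have hdiff : ∀ χ s t, D χ s - D χ t =
      -ε * ((if χ = F.mu s then 1 else 0) - (if χ = F.mu t then 1 else 0)) := by
    intro χ s t
    have h := H13.TI.coef_diff F χ s t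
    rw [hεF] at h
    have h' : ((H13.TI.coef χ (F.rep s) : ℤ) - H13.TI.coef χ (F.rep t)) =
        ε * ((if χ = F.mu s then 1 else 0) - (if χ = F.mu t then 1 else 0)) := by
      apply Int.cast_injective (α := ℂ)
      push_cast
      exact h
    simp only [hD]
    linear_combination (-1 : ℤ) * h'
  let o : Fin F.w := F.zeroIx
  set av : Fin F.w → ℤ := fun t => D (F.mu t) t + ε with hav
  have hDmu : ∀ t s, D (F.mu t) s = av t - ε * (if t = s then 1 else 0) := by
    intro t s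
    have h := hdiff (F.mu t) s t
    simp only [F.mu_inj.eq_iff, if_true] at h
    simp only [hav]
    by_cases hts : t = s
    · subst hts; simp
    · simp [hts] at h ⊢
      omega
  have hnn : ∀ s t, H13.TI.nn (F.rep s) (F.rep t) = if s = t then 1 else 0 := by
    intro s t
    by_cases h : s = t
    · subst h; rw [if_pos rfl, H13.TI.nn_of_rel hH (F.rep_ne s) (H13.TI.rel_refl A _)]
    · rw [if_neg h, H13.TI.nn_of_not_rel fun hr => h (F.rep_inj _ _ (H13.TI.rel_symm A hr))]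
  have hin : ∀ (χ : IrrCharacter G) s, classInner (χ : G → ℂ)
      (H13.TI.ind (1 : A →* ℂˣ) - H13.TI.ind (F.rep s)) = (D χ s : ℂ) := by
    intro χ s
    rw [H12.classInner_sub_right, H13.TI.coef_spec, H13.TI.coef_spec]
    simp [hD]
  have hav_const : ∀ t u, av t = av u := by
    intro t u
    by_cases htu : t = u
    · rw [htu]
    have h := H13.TI.isometry hH (F.rep t) (F.rep u) 1 (F.rep t)
    rw [F.diff, hεF, H12.classInner_smul_left, H12.classInner_sub_left, hin, hin,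
      hnn, hnn, H13.TI.nn_one_right (F.rep_ne t), H13.TI.nn_one_right (F.rep_ne u),
      if_pos rfl, if_neg (Ne.symm htu)] at h
    have h' : ε * (D (F.mu t) t - D (F.mu u) t) = -1 := by
      apply Int.cast_injective (α := ℂ)
      push_cast
      rw [h]; ring
    rw [hDmu, hDmu, if_pos rfl, if_neg (Ne.symm htu)] at h'
    have h2 : ε * (av t - av u) = 0 := by
      linear_combination h' + hεsq
    rcases hεc with rfl | rfl <;> simp at h2 <;> omega
  set a := av o with ha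
  set b : IrrCharacter G → ℤ := fun χ => if ∃ s, χ = F.mu s then 0 else D χ o with hb
  have hbD : ∀ χ, (∀ s, χ ≠ F.mu s) → ∀ s, D χ s = b χ := by
    intro χ hχ s
    have h := hdiff χ s o
    rw [if_neg (hχ s), if_neg (hχ o)] at h
    simp only [hb]
    rw [if_neg (by simpa using hχ)]
    linarith
  have hsplit : ∀ f : IrrCharacter G → ℂ, ∑ χ, f χ =
      ∑ χ ∈ Finset.univ.filter (fun χ => ∀ s, χ ≠ F.mu s), f χ + ∑ s, f (F.mu s) := by
    intro f
    rw [← Finset.sum_filter_add_sum_filter_not Finset.univ (fun χ => ∀ s, χ ≠ F.mu s)]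
    congr 1
    refine (Finset.sum_bij (fun s _ => F.mu s) (fun s _ => ?_) (fun s _ t _ h => F.mu_inj h)
      (fun χ hχ => ?_) (fun s _ => rfl)).symm
    · simp only [Finset.mem_filter, Finset.mem_univ, true_and, not_forall, ne_eq, not_not]
      exact ⟨s, rfl⟩
    · simp only [Finset.mem_filter, Finset.mem_univ, true_and, not_forall, ne_eq, not_not] at hχ
      obtain ⟨s, hs⟩ := hχ
      exact ⟨s, Finset.mem_univ _, hs.symm⟩
  set Φ : G → ℂ := H13.TI.ind (1 : A →* ℂˣ) - H13.TI.ind (F.rep o) with hΦ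
  have hΦc : IsClassFunction G Φ := H12.IsClassFunction.sub
    (H13.TI.ind_isClassFunction _) (H13.TI.ind_isClassFunction _)
  have hco : ∀ χ : IrrCharacter G, classInner Φ (χ : G → ℂ) = (D χ o : ℂ) := by
    intro χ
    rw [← H12.conj_classInner, hΦ, hin, map_intCast]
  have hbmu : ∀ s, b (F.mu s) = 0 := fun s => by
    simp only [hb]; exact if_pos ⟨s, rfl⟩
  have hbsum : ∀ f : IrrCharacter G → ℂ, ∑ χ, (b χ : ℂ) * f χ =
      ∑ χ ∈ Finset.univ.filter (fun χ => ∀ s, χ ≠ F.mu s), (D χ o : ℂ) * f χ := by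
    intro f
    rw [hsplit]
    simp only [hbmu, Int.cast_zero, zero_mul, Finset.sum_const_zero, add_zero]
    refine Finset.sum_congr rfl fun χ hχ => ?_
    rw [hbD χ (Finset.mem_filter.1 hχ).2]
  have hnorm : ∑ χ, b χ ^ 2 + ((a - ε) ^ 2 + ((F.w : ℤ) - 1) * a ^ 2) = (e : ℤ) + 1 := by
    have h1 := H13.TI.isometry hH 1 (F.rep o) 1 (F.rep o)
    rw [← hΦ, hnn, if_pos rfl, H13.TI.nn_one_one, hN, H13.TI.nn_one_left (F.rep_ne o),
      H13.TI.nn_one_right (F.rep_ne o), H12.classInner_eq_sum_mul hΦc hΦc] at h1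
    simp only [hco, map_intCast] at h1
    rw [hsplit, ← hbsum] at h1
    apply Int.cast_injective (α := ℂ)
    push_cast
    rw [show (e : ℂ) + 1 = (e : ℂ) - 0 - (0 - 1) by ring, ← h1]
    congr 1
    · refine Finset.sum_congr rfl fun χ _ => ?_
      by_cases h : ∀ s, χ ≠ F.mu s
      · rw [hbD χ h]; ring
      · push Not at h
        obtain ⟨s, rfl⟩ := h
        simp [hbmu]
    · rw [← Finset.add_sum_erase _ _ (Finset.mem_univ o)]
      have e1 : ∀ s ∈ (Finset.univ : Finset (Fin F.w)).erase o,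
          (D (F.mu s) o : ℂ) * (D (F.mu s) o : ℂ) = (a : ℂ) ^ 2 := fun s hs => by
        rw [hDmu, if_neg (Finset.ne_of_mem_erase hs), hav_const s o, ← ha]; push_cast; ring
      rw [Finset.sum_congr rfl e1, Finset.sum_const, Finset.card_erase_of_mem (Finset.mem_univ o),
        Finset.card_univ, Fintype.card_fin, nsmul_eq_mul, Nat.cast_sub (by omega), hDmu,
        if_pos rfl, ← ha]
      push_cast; ring
  have hb1 : b (H12.oneIrr G) = 1 ∧ ∀ s, F.mu s ≠ H12.oneIrr G := by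
    have h0 : ∀ θ : A →* ℂˣ, (H13.TI.coef (H12.oneIrr G) θ : ℂ) = if θ = 1 then 1 else 0 := by
      intro θ
      haveI := Fintype.ofFinite A
      rw [← H13.TI.coef_res]
      refine Eq.trans ?_ ((H13.TI.lf_inner A (1 : A →* ℂˣ) θ).trans (by
        by_cases h : θ = 1
        · subst h; simp
        · rw [if_neg h, if_neg (Ne.symm h)]))
      congr 1
    have hD1 : ∀ s, D (H12.oneIrr G) s = 1 := by
      intro s
      apply Int.cast_injective (α := ℂ)
      simp only [hD, Int.cast_sub, Int.cast_natCast, h0, if_pos, if_neg (F.rep_ne s)]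
      simp
    have hne : ∀ s, F.mu s ≠ H12.oneIrr G := by
      intro s hs
      obtain ⟨t, hts⟩ : ∃ t, t ≠ s := by
        by_contra hc
        push Not at hc
        have : Subsingleton (Fin F.w) := ⟨fun x y => (hc x).trans (hc y).symm⟩
        rw [Fin.subsingleton_iff_le_one] at this
        omega
      have h := hdiff (H12.oneIrr G) s t
      rw [hD1, hD1, if_pos hs.symm, if_neg (fun e2 => hts (F.mu_inj (e2.symm.trans hs.symm)))] at h
      rcases hεc with rfl | rfl <;> simp at h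
    refine ⟨?_, hne⟩
    rw [← hbD (H12.oneIrr G) (fun s => (hne s).symm) o, hD1]
  have hval : ∀ χ, (∀ s, χ ≠ F.mu s) → ∀ x ∈ A, x ≠ 1 → (χ : G → ℂ) x = b χ := by
    intro χ hχ x hx hx1
    have hsum : ∑ θ : A →* ℂˣ, (θ ⟨x, hx⟩ : ℂ) = 0 := by
      letI : CommGroup A := { (inferInstance : Group A) with mul_comm := mul_comm' }
      obtain ⟨φ, hφ⟩ : ∃ φ : A →* ℂˣ, φ ⟨x, hx⟩ ≠ 1 :=
        CommGroup.exists_apply_ne_one_of_hasEnoughRootsOfUnity A ℂ
          (fun h => hx1 (congrArg Subtype.val h))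
      have h2 : (φ ⟨x, hx⟩ : ℂ) * ∑ θ : A →* ℂˣ, (θ ⟨x, hx⟩ : ℂ) =
          ∑ θ : A →* ℂˣ, (θ ⟨x, hx⟩ : ℂ) := by
        rw [Finset.mul_sum]
        exact Fintype.sum_equiv (Equiv.mulLeft φ) _ _ fun θ => by simp
      rcases mul_left_eq_self₀.1 h2 with h | h
      · exact absurd (Units.ext h) hφ
      · exact h
    rw [show x = ((⟨x, hx⟩ : A) : G) from rfl, res_eq_sum hA]
    have key : ∀ θ : A →* ℂˣ, (H13.TI.coef χ θ : ℂ) * (θ ⟨x, hx⟩ : ℂ) =
        ((H13.TI.coef χ (1 : A →* ℂˣ) : ℂ) - b χ) * (θ ⟨x, hx⟩ : ℂ) + if θ = 1 then (b χ : ℂ) else 0 := by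
      intro θ
      by_cases h : θ = 1
      · subst h; rw [if_pos rfl]; simp
      · obtain ⟨s, hs⟩ := F.rep_all θ h
        rw [if_neg h, add_zero, ← H13.TI.coef_rel χ hs, ← hbD χ hχ s]
        simp [hD]
    rw [Finset.sum_congr rfl fun θ _ => key θ, Finset.sum_add_distrib, ← Finset.mul_sum, hsum,
      mul_zero, zero_add, Finset.sum_ite_eq' Finset.univ (1 : A →* ℂˣ), if_pos (Finset.mem_univ _)]
  have hsumval : ∀ x ∈ A, x ≠ 1 →
      ∑ s, (F.mu s : G → ℂ) x = ((F.w : ℤ) * a - ε : ℤ) := by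
    intro x hx hx1
    have hsum : ∑ θ : A →* ℂˣ, (θ ⟨x, hx⟩ : ℂ) = 0 := by
      letI : CommGroup A := { (inferInstance : Group A) with mul_comm := mul_comm' }
      obtain ⟨φ, hφ⟩ : ∃ φ : A →* ℂˣ, φ ⟨x, hx⟩ ≠ 1 :=
        CommGroup.exists_apply_ne_one_of_hasEnoughRootsOfUnity A ℂ
          (fun h => hx1 (congrArg Subtype.val h))
      have h2 : (φ ⟨x, hx⟩ : ℂ) * ∑ θ : A →* ℂˣ, (θ ⟨x, hx⟩ : ℂ) =
          ∑ θ : A →* ℂˣ, (θ ⟨x, hx⟩ : ℂ) := by
        rw [Finset.mul_sum]
        exact Fintype.sum_equiv (Equiv.mulLeft φ) _ _ fun θ => by simp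
      rcases mul_left_eq_self₀.1 h2 with h | h
      · exact absurd (Units.ext h) hφ
      · exact h
    show ∑ s, (F.mu s : G → ℂ) ((⟨x, hx⟩ : A) : G) = _
    rw [Finset.sum_congr rfl fun s _ => res_eq_sum hA (F.mu s) ⟨x, hx⟩]
    rw [Finset.sum_comm]
    set C : ℂ := ∑ t, (H13.TI.coef (F.mu t) (1 : A →* ℂˣ) : ℂ) with hC
    have key : ∀ θ : A →* ℂˣ, ∑ t, (H13.TI.coef (F.mu t) θ : ℂ) * (θ ⟨x, hx⟩ : ℂ) =
        (C - ((F.w : ℤ) * a - ε : ℤ)) * (θ ⟨x, hx⟩ : ℂ) +
          if θ = 1 then ((((F.w : ℤ) * a - ε : ℤ)) : ℂ) else 0 := by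
      intro θ
      rw [← Finset.sum_mul]
      by_cases h : θ = 1
      · subst h; rw [if_pos rfl]; simp [hC]
      · obtain ⟨s, hs⟩ := F.rep_all θ h
        rw [if_neg h, add_zero]
        congr 1
        have e1 : ∀ t, (H13.TI.coef (F.mu t) θ : ℂ) =
            (H13.TI.coef (F.mu t) (1 : A →* ℂˣ) : ℂ) - ((a : ℂ) - (ε : ℂ) * if t = s then 1 else 0) := by
          intro t
          have e2 := congrArg (Int.cast (R := ℂ)) (hDmu t s)
          rw [hav_const t o, ← ha] at e2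
          simp only [hD] at e2
          push_cast at e2
          rw [← H13.TI.coef_rel (F.mu t) hs]
          linear_combination -e2
        rw [Finset.sum_congr rfl fun t _ => e1 t, Finset.sum_sub_distrib, ← hC,
          Finset.sum_sub_distrib, Finset.sum_const, Finset.card_univ, Fintype.card_fin,
          ← Finset.mul_sum, Finset.sum_ite_eq', if_pos (Finset.mem_univ _)]
        simp
    rw [Finset.sum_congr rfl fun θ _ => key θ, Finset.sum_add_distrib, ← Finset.mul_sum, hsum,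
      mul_zero, zero_add, Finset.sum_ite_eq' Finset.univ (1 : A →* ℂˣ), if_pos (Finset.mem_univ _)]
  have hconst : ∀ g, ¬ InA A g → ∀ s t, (F.mu s : G → ℂ) g = (F.mu t : G → ℂ) g := by
    intro g hg s t
    have h := congrFun (F.diff s t) g
    rw [Pi.sub_apply, ind_sub_eq_zero hg, Pi.smul_apply, Pi.sub_apply, smul_eq_mul, eq_comm,
      mul_eq_zero] at h
    rcases h with h | h
    · exact absurd h F.eps_ne_zero
    · exact sub_eq_zero.1 h
  have hrel : ∀ g, ¬ InA A g → ∀ s, ∑ χ, (b χ : ℂ) * (χ : G → ℂ) g +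
      ((F.w : ℤ) * a - ε : ℤ) * (F.mu s : G → ℂ) g = 0 := by
    intro g hg s
    have h := H12.classFunction_apply_eq_sum hΦc g
    simp only [hco] at h
    rw [hsplit, ← hbsum] at h
    rw [show Φ g = 0 from ind_sub_eq_zero hg _ _] at h
    rw [h]
    congr 1
    rw [Finset.sum_congr rfl (g := fun t => (D (F.mu t) o : ℂ) * (F.mu s : G → ℂ) g)
      (fun t _ => by rw [hconst g hg t s]), ← Finset.sum_mul]
    congr 1
    simp only [hDmu, hav_const _ o, ← ha]
    push_cast
    rw [Finset.sum_sub_distrib, Finset.sum_const, Finset.card_univ, Fintype.card_fin,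
      ← Finset.mul_sum, Finset.sum_ite_eq', if_pos (Finset.mem_univ _)]
    simp
  have hdist : ∀ s t, s ≠ t → ∃ x ∈ A, x ≠ 1 ∧ (F.mu s : G → ℂ) x ≠ (F.mu t : G → ℂ) x := by
    intro s t hst
    by_contra hc
    push Not at hc
    apply hst
    apply F.mu_inj
    apply Subtype.ext
    funext g
    by_cases hg : InA A g
    · obtain ⟨hg1, c, hc'⟩ := hg
      rw [← H12.irr_isClassFunction (F.mu s) g c, ← H12.irr_isClassFunction (F.mu t) g c]
      refine hc _ hc' fun e2 => hg1 ?_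
      calc g = c⁻¹ * (c * g * c⁻¹) * c := by group
        _ = 1 := by rw [e2]; group
    · exact hconst g hg s t
  have hnonconst : ∀ s, ∀ β : ℂ, ∃ x ∈ A, x ≠ 1 ∧ (F.mu s : G → ℂ) x ≠ β := by
    intro s β
    by_contra hc
    push Not at hc
    obtain ⟨t, hts⟩ : ∃ t, t ≠ s := by
      by_contra hc'
      push Not at hc'
      have : Subsingleton (Fin F.w) := ⟨fun x y => (hc' x).trans (hc' y).symm⟩
      rw [Fin.subsingleton_iff_le_one] at this
      omega
    haveI := Fintype.ofFinite A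
    have key : ∀ θ : A →* ℂˣ, θ ≠ 1 → (H13.TI.coef (F.mu s) θ : ℂ) =
        (Nat.card A : ℂ)⁻¹ * ((F.mu s : G → ℂ) 1 - β) := by
      intro θ hθ
      rw [← H13.TI.coef_res, H12.classInner_def]
      congr 1
      have hf : ∀ h : A, (F.mu s : G → ℂ) (h : G) =
          β + if h = 1 then (F.mu s : G → ℂ) 1 - β else 0 := by
        intro h
        by_cases h1 : h = 1
        · subst h1; simp
        · rw [if_neg h1, add_zero]; exact hc h h.2 fun e => h1 (Subtype.ext e)
      have h0 := H13.TI.lf_inner A (1 : A →* ℂˣ) θ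
      rw [if_neg (Ne.symm hθ), H12.classInner_def, mul_eq_zero, inv_eq_zero] at h0
      rcases h0 with h0 | h0
      · exact absurd h0 (Nat.cast_ne_zero.2 Nat.card_pos.ne')
      rw [Finset.sum_congr rfl fun h _ => by rw [hf h, add_mul, ite_mul, zero_mul],
        Finset.sum_add_distrib, Finset.sum_ite_eq', if_pos (Finset.mem_univ _), ← Finset.mul_sum]
      simp [H13.TI.lf] at h0 ⊢
      rw [h0]; simp
    have h := hdiff (F.mu s) s t
    simp only [F.mu_inj.eq_iff, if_true, if_neg (Ne.symm hts), hD] at h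
    have h2 : H13.TI.coef (F.mu s) (F.rep s) = H13.TI.coef (F.mu s) (F.rep t) := by
      exact_mod_cast (key _ (F.rep_ne s)).trans (key _ (F.rep_ne t)).symm
    rw [h2] at h
    rcases hεc with rfl | rfl <;> simp at h
  exact ⟨{ m := F.w, two_le := hw, card_eq := hcard, mu := F.mu, mu_inj := F.mu_inj, eps := ε,
           eps_cases := hεc, a := a, b := b, b_mu := hbmu, b_one := hb1.1,
           one_ne := hb1.2, val := hval, sum_val := hsumval, nonconst := hnonconst,
           distinct := hdist, norm := hnorm, const := hconst, rel := hrel }⟩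

namespace Exc

variable {e : ℕ} (E : Exc A e)

include E

theorem zero_lt_m : 0 < E.m := Nat.lt_of_lt_of_le Nat.two_pos E.two_le

theorem exists_ne_one : ∃ x ∈ A, x ≠ 1 := by
  obtain ⟨x, hx, hx1, -⟩ := E.nonconst ⟨0, E.zero_lt_m⟩ 0
  exact ⟨x, hx, hx1⟩

theorem sum_split {M : Type*} [AddCommMonoid M] [DecidableEq (IrrCharacter G)]
    (f : IrrCharacter G → M) :
    ∑ χ, f χ = ∑ χ ∈ (Finset.univ.image E.mu)ᶜ, f χ + ∑ s, f (E.mu s) := by
  rw [← Finset.sum_image (f := f) E.mu_inj.injOn, Finset.sum_compl_add_sum]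

theorem degree_eq (s t : Fin E.m) :
    H12.degree (E.mu s : G → ℂ) = H12.degree (E.mu t : G → ℂ) := by
  have h := E.const 1 (not_inA_one A) s t
  rw [H12.irr_apply_one (E.mu s), H12.irr_apply_one (E.mu t)] at h
  exact_mod_cast h

/-- Column orthogonality at a nontrivial element of the subgroup. -/
theorem col (hA : Ssc A) {x : G} (hx : x ∈ A) (hx1 : x ≠ 1) :
    ∑ s, ‖(E.mu s : G → ℂ) x‖ ^ 2 + ∑ χ, (E.b χ : ℝ) ^ 2 = (Nat.card A : ℝ) := by
  classical
  have h := sum_norm_sq x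
  rw [hA x hx hx1] at h
  rw [← h, E.sum_split (fun χ => ‖(χ : G → ℂ) x‖ ^ 2), E.sum_split (fun χ => (E.b χ : ℝ) ^ 2)]
  simp only [E.b_mu, Int.cast_zero, ne_eq, OfNat.ofNat_ne_zero, not_false_eq_true, zero_pow,
    Finset.sum_const_zero, add_zero]
  rw [add_comm]
  refine congrArg (· + _) (Finset.sum_congr rfl fun χ hχ => ?_)
  simp only [Finset.mem_compl, Finset.mem_image, Finset.mem_univ, true_and, not_exists] at hχ
  rw [E.val χ (fun s h' => hχ s h'.symm) x hx hx1, Complex.norm_intCast, sq_abs]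

/-- The common degree of the exceptional characters modulo the order of the subgroup. -/
theorem deg_mod (hA : Ssc A) (s : Fin E.m) :
    (Nat.card A : ℤ) ∣ (H12.degree (E.mu s : G → ℂ) : ℤ) - (E.a + (e : ℤ) * E.eps) := by
  classical
  haveI := Fintype.ofFinite A
  have hk : ∀ t, ∃ k : ℕ, ∑ x : A, (E.mu t : G → ℂ) x = (Nat.card A : ℂ) * k := fun t =>
    H24.sum_subgroup_eq (H12.isCharacter_irr (E.mu t)) A
  choose k hk using hk
  have hsum : ∑ x : A, ∑ t, (E.mu t : G → ℂ) x = (Nat.card A : ℂ) * ((∑ t, k t : ℕ) : ℂ) := by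
    rw [Finset.sum_comm, Finset.sum_congr rfl fun t _ => hk t]
    push_cast
    rw [Finset.mul_sum]
  have hv : ∀ x ∈ (Finset.univ : Finset A).erase 1,
      ∑ t, (E.mu t : G → ℂ) (x : G) = (((E.m : ℤ) * E.a - E.eps : ℤ) : ℂ) := fun x hx =>
    E.sum_val x x.2 fun h => Finset.ne_of_mem_erase hx (Subtype.ext h)
  rw [← Finset.add_sum_erase _ _ (Finset.mem_univ (1 : A)), Finset.sum_congr rfl hv,
    Finset.sum_const, Finset.card_erase_of_mem (Finset.mem_univ _), Finset.card_univ,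
    ← Nat.card_eq_fintype_card, nsmul_eq_mul,
    Finset.sum_congr rfl (g := fun _ => (H12.degree (E.mu s : G → ℂ) : ℂ)) (fun t _ => by
      rw [OneMemClass.coe_one, H12.irr_apply_one (E.mu t), E.degree_eq t s]),
    Finset.sum_const, Finset.card_univ, Fintype.card_fin, nsmul_eq_mul,
    Nat.cast_sub Nat.card_pos] at hsum
  have hz : (E.m : ℤ) * (H12.degree (E.mu s : G → ℂ) : ℤ) +
      ((Nat.card A : ℤ) - 1) * ((E.m : ℤ) * E.a - E.eps) = (Nat.card A : ℤ) * (∑ t, k t : ℕ) := by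
    apply Int.cast_injective (α := ℂ)
    push_cast at hsum ⊢
    linear_combination hsum
  have hc : (Nat.card A : ℤ) = (e : ℤ) * E.m + 1 := by exact_mod_cast E.card_eq
  refine ⟨(H12.degree (E.mu s : G → ℂ) : ℤ) - E.a + (e : ℤ) * ((E.m : ℤ) * E.a - E.eps)
    - (e : ℤ) * (∑ t, k t : ℕ), ?_⟩
  linear_combination -(e : ℤ) * hz - ((H12.degree (E.mu s : G → ℂ) : ℤ) - E.a) * hc

variable {B : Subgroup G} {e' : ℕ}

/-- Exceptional characters of two disjoint subgroups are different. -/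
theorem mu_ne (E' : Exc B e') (hd : ∀ g : G, InA B g → ¬ InA A g) (t : Fin E.m)
    (u : Fin E'.m) : E.mu t ≠ E'.mu u := by
  intro h
  obtain ⟨t', ht'⟩ : ∃ t', t' ≠ t := by
    have : Nontrivial (Fin E.m) := Fin.nontrivial_iff_two_le.2 E.two_le
    exact exists_ne t
  have heq : ∀ x ∈ B, x ≠ 1 → (E.mu t' : G → ℂ) x = (E'.mu u : G → ℂ) x := fun x hx hx1 => by
    rw [← h]
    exact E.const x (hd x ⟨hx1, 1, by simpa using hx⟩) t' t
  by_cases hr : ∃ u', E.mu t' = E'.mu u'
  · obtain ⟨u', hu'⟩ := hr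
    have hne : u' ≠ u := fun e2 => ht' (E.mu_inj (by rw [hu', e2, h]))
    obtain ⟨x, hx, hx1, hx2⟩ := E'.distinct u' u hne
    exact hx2 (by rw [← hu']; exact heq x hx hx1)
  · push Not at hr
    obtain ⟨x, hx, hx1, hx2⟩ := E'.nonconst u (E'.b (E.mu t') : ℂ)
    exact hx2 (by rw [← heq x hx hx1, E'.val _ hr x hx hx1])

/-- The value of the exceptional characters on another subgroup does not depend on the index. -/
theorem b_const (E' : Exc B e') (hd : ∀ g : G, InA B g → ¬ InA A g) (s t : Fin E.m) :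
    E'.b (E.mu s) = E'.b (E.mu t) := by
  obtain ⟨x, hx, hx1⟩ := E'.exists_ne_one
  have h := E.const x (hd x ⟨hx1, 1, by simpa using hx⟩) s t
  rw [E'.val _ (fun u => E.mu_ne E' hd s u) x hx hx1,
    E'.val _ (fun u => E.mu_ne E' hd t u) x hx hx1] at h
  exact_mod_cast h

theorem cross_norm (E' : Exc B e') (hd : ∀ g : G, InA B g → ¬ InA A g) (s : Fin E.m) :
    (E.m : ℤ) * E'.b (E.mu s) ^ 2 + 1 ≤ ∑ χ, E'.b χ ^ 2 := by
  classical
  rw [E.sum_split (fun χ => E'.b χ ^ 2),
    Finset.sum_congr rfl (g := fun _ => E'.b (E.mu s) ^ 2)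
      (s₁ := (Finset.univ : Finset (Fin E.m))) (fun t _ => by rw [E.b_const E' hd t s]),
    Finset.sum_const, Finset.card_univ, Fintype.card_fin, nsmul_eq_mul]
  have h1 := Finset.single_le_sum (f := fun χ => E'.b χ ^ 2)
    (s := (Finset.univ.image E.mu)ᶜ) (fun χ _ => sq_nonneg _) (a := H12.oneIrr G) (by
      simp only [Finset.mem_compl, Finset.mem_image, Finset.mem_univ, true_and, not_exists]
      exact E.one_ne)
  simp only [E'.b_one, one_pow] at h1
  linarith

theorem dvd_of_b_zero (E' : Exc B e') (hd : ∀ g : G, InA B g → ¬ InA A g) (s : Fin E.m)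
    (h0 : E'.b (E.mu s) = 0) : Nat.card B ∣ H12.degree (E.mu s : G → ℂ) := by
  classical
  haveI := Fintype.ofFinite B
  obtain ⟨k, hk⟩ := H24.sum_subgroup_eq (H12.isCharacter_irr (E.mu s)) B
  rw [← Finset.add_sum_erase _ _ (Finset.mem_univ (1 : B)),
    Finset.sum_eq_zero (fun x hx => by
      rw [E'.val _ (fun u => E.mu_ne E' hd s u) x x.2
        (fun h => Finset.ne_of_mem_erase hx (Subtype.ext h)), h0, Int.cast_zero]),
    add_zero, OneMemClass.coe_one, H12.irr_apply_one (E.mu s)] at hk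
  exact ⟨k, by exact_mod_cast hk⟩

end Exc

/-- Induced linear characters are dominated by the induced trivial character. -/
theorem norm_indFun_le (B : Subgroup G) (θ : B → ℂ) (hθ : ∀ x, ‖θ x‖ ≤ 1) (g : G) :
    ‖indFun B θ g‖ ≤ ‖indFun B (1 : B → ℂ) g‖ := by
  classical
  have h1 : indFun B (1 : B → ℂ) g =
      (((Nat.card B : ℝ)⁻¹ * ∑ x : G, (if x⁻¹ * g * x ∈ B then (1 : ℝ) else 0) : ℝ) : ℂ) := by
    rw [H12.indFun_apply]
    push_cast
    congr 1
    refine Finset.sum_congr rfl fun x _ => ?_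
    by_cases hm : x⁻¹ * g * x ∈ B
    · rw [H12.extendByZero_mk B _ hm, if_pos hm]; simp
    · rw [H12.extendByZero_of_notMem B _ hm, if_neg hm]; simp
  rw [h1, Complex.norm_real, Real.norm_of_nonneg (by positivity), H12.indFun_apply, norm_mul,
    norm_inv, Complex.norm_natCast]
  refine mul_le_mul_of_nonneg_left ((norm_sum_le _ _).trans (Finset.sum_le_sum fun x _ => ?_))
    (by positivity)
  by_cases hm : x⁻¹ * g * x ∈ B
  · rw [H12.extendByZero_mk B _ hm, if_pos hm]; exact hθ _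
  · rw [H12.extendByZero_of_notMem B _ hm, if_neg hm]; simp

/-- The cusp condition: exceptional characters sum to zero on `U`. -/
theorem Exc.cusp {e : ℕ} (E : Exc A e) (U B : Subgroup G) [Fintype U] (hUB : U ≤ B)
    (hnorm : B ≤ Subgroup.normalizer (U : Set G))
    (hc : ∀ a ∈ B, ∀ b ∈ B, a * b * a⁻¹ * b⁻¹ ∈ U) (hAB : ∀ g ∈ B, ¬ InA A g)
    (hπ : classInner (indFun B (1 : B → ℂ)) (indFun B (1 : B → ℂ)) = 2) (hm : 3 ≤ E.m)
    (s : Fin E.m) : ∑ x : U, (E.mu s : G → ℂ) x = 0 := by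
  classical
  haveI := Fintype.ofFinite B
  let U' : Subgroup B := U.subgroupOf B
  haveI hN : U'.Normal := Subgroup.normal_subgroupOf_of_le_normalizer hnorm
  have hcomm : ∀ p q : B ⧸ U', p * q = q * p := by
    intro p q
    induction p using QuotientGroup.induction_on with
    | H p =>
      induction q using QuotientGroup.induction_on with
      | H q =>
        rw [← QuotientGroup.mk_mul, ← QuotientGroup.mk_mul, QuotientGroup.eq,
          Subgroup.mem_subgroupOf]
        have h := hc (q⁻¹ : B) (q⁻¹ : B).2 (p⁻¹ : B) (p⁻¹ : B).2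
        simpa [mul_assoc] using h
  letI : CommGroup (B ⧸ U') :=
    { (inferInstance : Group (B ⧸ U')) with mul_comm := hcomm }
  haveI := Fintype.ofFinite (B ⧸ U')
  haveI : Finite (B ⧸ U' →* ℂˣ) :=
    Finite.of_equiv _ (CommGroup.monoidHom_mulEquiv_of_hasEnoughRootsOfUnity (B ⧸ U') ℂ).some.toEquiv.symm
  haveI := Fintype.ofFinite (B ⧸ U' →* ℂˣ)
  -- the coefficient of each linear character vanishes
  have hcoef : ∀ θ : B →* ℂˣ, ∑ x : B, (E.mu s : G → ℂ) x * conj (θ x : ℂ) = 0 := by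
    intro θ
    set f : G → ℂ := indFun B (H13.TI.lf θ) with hf
    have hc0 : ∀ t, classInner (E.mu t : G → ℂ) f = classInner (E.mu s : G → ℂ) f := by
      intro t
      rw [hf, H12.classInner_indFun_right B _ (H12.irr_isClassFunction (E.mu t)),
        H12.classInner_indFun_right B _ (H12.irr_isClassFunction (E.mu s))]
      congr 1
      funext x
      exact E.const x (hAB x x.2) t s
    have hle : ∑ g : G, ‖f g‖ ^ 2 ≤ 2 * (Nat.card G : ℝ) := by
      have h2 : ∑ g : G, ‖indFun B (1 : B → ℂ) g‖ ^ 2 = 2 * (Nat.card G : ℝ) := by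
        have h := H12.sum_mul_conj_eq_card_mul (indFun B (1 : B → ℂ)) (indFun B (1 : B → ℂ))
        rw [hπ] at h
        apply Complex.ofReal_injective
        push_cast
        rw [mul_comm, ← h]
        exact Finset.sum_congr rfl fun g _ => (Complex.mul_conj' _).symm
      rw [← h2]
      refine Finset.sum_le_sum fun g _ => ?_
      gcongr
      refine norm_indFun_le B _ (fun x => le_of_eq ?_) g
      exact Complex.norm_eq_one_of_pow_eq_one (n := Nat.card B) (by
        show (θ x : ℂ) ^ Nat.card B = 1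
        rw [← Units.val_pow_eq_pow_val, ← map_pow, pow_card_eq_one', map_one, Units.val_one])
        Nat.card_pos.ne'
    have hfc : IsClassFunction G f := H12.indFun_isClassFunction B _
    have hbes : ∑ χ : IrrCharacter G, ‖classInner (χ : G → ℂ) f‖ ^ 2 ≤ 2 := by
      have h := H12.classInner_eq_sum_mul hfc hfc
      have h' := H12.sum_mul_conj_eq_card_mul f f
      rw [h] at h'
      have e1 : ((∑ g : G, ‖f g‖ ^ 2 : ℝ) : ℂ) = ∑ g : G, f g * conj (f g) := by
        push_cast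
        exact Finset.sum_congr rfl fun g _ => (Complex.mul_conj' _).symm
      have e2 : ((∑ χ : IrrCharacter G, ‖classInner (χ : G → ℂ) f‖ ^ 2 : ℝ) : ℂ) =
          ∑ χ : IrrCharacter G, classInner f (χ : G → ℂ) * conj (classInner f (χ : G → ℂ)) := by
        push_cast
        refine Finset.sum_congr rfl fun χ _ => ?_
        rw [← H12.conj_classInner (χ : G → ℂ) f, Complex.conj_conj, mul_comm, Complex.mul_conj']
      rw [← e1, ← e2] at h'
      have h'' : ∑ g : G, ‖f g‖ ^ 2 =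
          (Nat.card G : ℝ) * ∑ χ : IrrCharacter G, ‖classInner (χ : G → ℂ) f‖ ^ 2 := by
        exact_mod_cast h'
      have hG : (0 : ℝ) < (Nat.card G : ℝ) := by exact_mod_cast Nat.card_pos
      nlinarith
    rw [E.sum_split (fun χ => ‖classInner (χ : G → ℂ) f‖ ^ 2),
      Finset.sum_congr rfl (s₁ := (Finset.univ : Finset (Fin E.m)))
        (g := fun _ => ‖classInner (E.mu s : G → ℂ) f‖ ^ 2) (fun t _ => by rw [hc0 t]),
      Finset.sum_const, Finset.card_univ, Fintype.card_fin, nsmul_eq_mul] at hbes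
    have hco := H13.TI.coef_res (E.mu s) θ
    rw [← H12.classInner_indFun_right B _ (H12.irr_isClassFunction (E.mu s)), ← hf] at hco
    rw [hco, Complex.norm_natCast] at hbes
    have hnn : 0 ≤ ∑ χ ∈ (Finset.univ.image E.mu)ᶜ, ‖classInner (χ : G → ℂ) f‖ ^ 2 := by
      positivity
    have hc1 : H13.TI.coef (E.mu s) θ = 0 := by
      by_contra hne
      have h1 : (1 : ℝ) ≤ (H13.TI.coef (E.mu s) θ : ℝ) := by
        exact_mod_cast Nat.one_le_iff_ne_zero.2 hne
      have hm' : (3 : ℝ) ≤ (E.m : ℝ) := by exact_mod_cast hm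
      nlinarith
    have h := H13.TI.coef_res (E.mu s) θ
    rw [hc1, Nat.cast_zero, H12.classInner_def, mul_eq_zero, inv_eq_zero] at h
    exact h.resolve_left (Nat.cast_ne_zero.2 Nat.card_pos.ne')
  have hdual : ∀ q : B ⧸ U', ∑ φ : B ⧸ U' →* ℂˣ, (φ q : ℂ) =
      if q = 1 then (Fintype.card (B ⧸ U' →* ℂˣ) : ℂ) else 0 := by
    intro q
    by_cases hq : q = 1
    · subst hq; simp
    rw [if_neg hq]
    obtain ⟨ψ, hψ⟩ := CommGroup.exists_apply_ne_one_of_hasEnoughRootsOfUnity (B ⧸ U') ℂ hq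
    have h2 : (ψ q : ℂ) * ∑ φ : B ⧸ U' →* ℂˣ, (φ q : ℂ) = ∑ φ : B ⧸ U' →* ℂˣ, (φ q : ℂ) := by
      rw [Finset.mul_sum]
      exact Fintype.sum_equiv (Equiv.mulLeft ψ) _ _ fun φ => by simp
    rcases mul_left_eq_self₀.1 h2 with h | h
    · exact absurd (Units.ext h) hψ
    · exact h
  have hsum : ∑ x : B, (E.mu s : G → ℂ) x *
      conj (∑ φ : B ⧸ U' →* ℂˣ, (φ (x : B ⧸ U') : ℂ)) = 0 := by
    simp only [map_sum, Finset.mul_sum]
    rw [Finset.sum_comm]
    exact Finset.sum_eq_zero fun φ _ => hcoef (φ.comp (QuotientGroup.mk' U'))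
  simp only [hdual, apply_ite (conj : ℂ → ℂ), map_zero, Complex.conj_natCast, mul_ite, mul_zero,
    QuotientGroup.eq_one_iff] at hsum
  rw [← Finset.sum_filter, ← Finset.sum_mul, mul_eq_zero] at hsum
  have hne : (Fintype.card (B ⧸ U' →* ℂˣ) : ℂ) ≠ 0 := Nat.cast_ne_zero.2 Fintype.card_ne_zero
  refine Eq.trans ?_ (hsum.resolve_right hne)
  refine Finset.sum_bij (fun (x : U) _ => (⟨x, hUB x.2⟩ : B)) (fun x _ => ?_)
    (fun x _ y _ h => Subtype.ext (congrArg (fun z : B => (z : G)) h)) (fun x hx => ?_)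
    (fun x _ => rfl)
  · simp [U', Subgroup.mem_subgroupOf]
  · simp only [Finset.mem_filter, U', Subgroup.mem_subgroupOf] at hx
    exact ⟨⟨x, hx.2⟩, Finset.mem_univ _, rfl⟩

/-- A character with zero sum on `U` has degree divisible by a complement acting without fusion. -/
theorem dvd_degree_of_sum_zero (χ : IrrCharacter G) (U A₀ : Subgroup G) [Fintype U]
    (hn : A₀ ≤ Subgroup.normalizer (U : Set G)) (hdisj : Disjoint U A₀)
    (hconj : ∀ a ∈ A₀, a ≠ 1 → ∀ u ∈ U, IsConj a (a * u)) (h0 : ∑ u : U, (χ : G → ℂ) u = 0) :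
    Nat.card A₀ ∣ H12.degree (χ : G → ℂ) := by
  classical
  haveI := Fintype.ofFinite A₀
  let H : Subgroup G := A₀ ⊔ U
  haveI := Fintype.ofFinite H
  let f : A₀ × U → H := fun p => ⟨(p.1 : G) * p.2,
    mul_mem (Subgroup.mem_sup_left p.1.2) (Subgroup.mem_sup_right p.2.2)⟩
  have hinj : Function.Injective f := by
    rintro ⟨a, u⟩ ⟨a', u'⟩ h
    have h' : (a : G) * u = a' * u' := congrArg Subtype.val h
    have e1 : (a' : G)⁻¹ * a = u' * (u : G)⁻¹ := by
      calc (a' : G)⁻¹ * a = (a' : G)⁻¹ * (a * u) * (u : G)⁻¹ := by group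
        _ = _ := by rw [h']; group
    have e2 : (a' : G)⁻¹ * a = 1 := Subgroup.disjoint_def.1 hdisj
      (e1 ▸ mul_mem u'.2 (inv_mem u.2)) (mul_mem (inv_mem a'.2) a.2)
    have ha : (a : G) = a' := (inv_mul_eq_one.1 e2).symm
    have hu : (u : G) = u' := by rw [ha] at h'; exact mul_left_cancel h'
    exact Prod.ext (Subtype.ext ha) (Subtype.ext hu)
  have hsurj : Function.Surjective f := by
    rintro ⟨x, hx⟩
    have hset := Subgroup.coe_mul_of_left_le_normalizer_right A₀ U hn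
    have hx' : x ∈ (A₀ : Set G) * (U : Set G) := by
      rw [← hset]
      exact hx
    obtain ⟨a, ha, u, hu, e⟩ := Set.mem_mul.1 hx'
    exact ⟨(⟨a, ha⟩, ⟨u, hu⟩), Subtype.ext e⟩
  obtain ⟨k, hk⟩ := H24.sum_subgroup_eq (H12.isCharacter_irr χ) H
  obtain ⟨l, hl⟩ := H24.sum_subgroup_eq (H12.isCharacter_irr χ) A₀
  rw [← Fintype.sum_bijective f ⟨hinj, hsurj⟩ (fun p => (χ : G → ℂ) ((p.1 : G) * p.2))
    (fun x : H => (χ : G → ℂ) (x : G)) (fun p => rfl), Fintype.sum_prod_type,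
    ← Nat.card_congr (Equiv.ofBijective f ⟨hinj, hsurj⟩), Nat.card_prod, Nat.cast_mul] at hk
  have hrow : ∀ a ∈ (Finset.univ : Finset A₀).erase 1,
      ∑ u : U, (χ : G → ℂ) ((a : G) * u) = (Nat.card U : ℂ) * (χ : G → ℂ) (a : G) := by
    intro a ha
    have he : ∀ u : U, (χ : G → ℂ) ((a : G) * u) = (χ : G → ℂ) (a : G) := fun u =>
      (H12.IsClassFunction.of_isConj (H12.irr_isClassFunction χ)
        (hconj (a : G) a.2 (fun h => Finset.ne_of_mem_erase ha (Subtype.ext h)) (u : G) u.2)).symm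
    rw [Finset.sum_congr rfl fun u _ => he u]
    rw [Finset.sum_const, Finset.card_univ, ← Nat.card_eq_fintype_card, nsmul_eq_mul]
  rw [← Finset.add_sum_erase _ _ (Finset.mem_univ (1 : A₀)), Finset.sum_congr rfl hrow,
    ← Finset.mul_sum] at hk
  simp only [OneMemClass.coe_one, one_mul, h0, zero_add] at hk
  rw [← Finset.add_sum_erase _ _ (Finset.mem_univ (1 : A₀)), OneMemClass.coe_one,
    H12.irr_apply_one χ] at hl
  have hU : (Nat.card U : ℂ) ≠ 0 := Nat.cast_ne_zero.2 Nat.card_pos.ne'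
  have hS : ∑ a ∈ (Finset.univ : Finset A₀).erase 1, (χ : G → ℂ) (a : G) =
      (Nat.card A₀ : ℂ) * k := by
    apply mul_left_cancel₀ hU
    rw [hk]; ring
  rw [hS] at hl
  have hz : (H12.degree (χ : G → ℂ) : ℤ) = (Nat.card A₀ : ℤ) * ((l : ℤ) - k) := by
    apply Int.cast_injective (α := ℂ)
    push_cast
    linear_combination hl
  exact Int.natCast_dvd_natCast.1 ⟨_, hz⟩

/-- The product criterion at a nontrivial element of a strongly self-centralising subgroup. -/
theorem Exc.prodTwo {e : ℕ} (E : Exc A e) (hA : Ssc A) {x g : G} (hx : x ∈ A) (hx1 : x ≠ 1)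
    (hg1 : g ≠ 1) (hgA : ¬ InA A g) {d D P : ℕ} (hd0 : 0 < d) (hD0 : 0 < D)
    (hd : ∀ χ : IrrCharacter G, χ ≠ H12.oneIrr G → d ≤ H12.degree (χ : G → ℂ))
    (hD : ∀ s, D ≤ H12.degree (E.mu s : G → ℂ))
    (hP : ∑ χ, E.b χ ^ 2 = (P : ℤ) + 1) (hP8 : P ≤ 8)
    (h : ((Nat.card (Subgroup.centralizer ({g} : Set G)) : ℝ) - 1) *
      (4 * (P : ℝ) / (d : ℝ) ^ 2 +
        ((Nat.card A : ℝ) - P - 1) ^ 2 / ((E.m : ℝ) * (D : ℝ) ^ 2)) < 1) : ProdTwo x g := by
  classical
  apply ProdTwo.of_sum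
  intro h0
  set S := (Finset.univ : Finset (IrrCharacter G)).erase (H12.oneIrr G) with hS
  set W : ℝ := ∑ s, ‖(E.mu s : G → ℂ) x‖ ^ 2 with hW
  let s₀ : Fin E.m := ⟨0, E.zero_lt_m⟩
  have hPr : ∑ χ, (E.b χ : ℝ) ^ 2 = (P : ℝ) + 1 := by exact_mod_cast hP
  have hWv : W = (Nat.card A : ℝ) - P - 1 := by
    have := E.col hA hx hx1
    linarith
  have hbS : ∑ χ ∈ S, (E.b χ : ℝ) ^ 2 = P := by
    rw [← Finset.add_sum_erase _ _ (Finset.mem_univ (H12.oneIrr G)), E.b_one] at hPr
    push_cast at hPr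
    linarith
  let M := Finset.univ.image E.mu
  have hMS : M ⊆ S := by
    intro χ hχ
    obtain ⟨s, -, rfl⟩ := Finset.mem_image.1 hχ
    exact Finset.mem_erase.2 ⟨E.one_ne s, Finset.mem_univ _⟩
  have hMone : ∀ {f : IrrCharacter G → ℝ}, ∑ χ ∈ S.filter (fun χ => χ ∈ M), f χ =
      ∑ s, f (E.mu s) := by
    intro f
    rw [show S.filter (fun χ => χ ∈ M) = M by
      ext χ; simp only [Finset.mem_filter]; exact ⟨fun h => h.2, fun h => ⟨hMS h, h⟩⟩]
    exact Finset.sum_image E.mu_inj.injOn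
  let w : IrrCharacter G → ℝ := fun χ =>
    if χ ∈ M then W / ((E.m : ℝ) * D) else (E.b χ : ℝ) ^ 2 / d
  have hmpos : (0 : ℝ) < (E.m : ℝ) := by exact_mod_cast E.zero_lt_m
  have hdpos : (0 : ℝ) < (d : ℝ) := by exact_mod_cast hd0
  have hDpos : (0 : ℝ) < (D : ℝ) := by exact_mod_cast hD0
  have hW0 : 0 ≤ W := by positivity
  set T : ℂ := ∑ χ ∈ S, (χ : G → ℂ) x * (χ : G → ℂ) x * conj ((χ : G → ℂ) g) / (χ : G → ℂ) 1
  have hT : T = -1 := by
    rw [← Finset.add_sum_erase _ _ (Finset.mem_univ (H12.oneIrr G)), H12.oneIrr_apply,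
      H12.oneIrr_apply, H12.oneIrr_apply, map_one] at h0
    rw [one_mul, one_mul, div_one] at h0
    exact eq_neg_of_add_eq_zero_right h0
  have h1 : 1 ≤ ∑ χ ∈ S, w χ * ‖(χ : G → ℂ) g‖ := by
    have e0 : ‖T‖ ≤ ∑ χ ∈ S, w χ * ‖(χ : G → ℂ) g‖ := by
      refine (norm_sum_le _ _).trans ?_
      rw [← Finset.sum_filter_add_sum_filter_not S (fun χ => χ ∈ M),
        ← Finset.sum_filter_add_sum_filter_not S (fun χ => χ ∈ M)
          (fun χ => w χ * ‖(χ : G → ℂ) g‖)]
      refine add_le_add ?_ (Finset.sum_le_sum fun χ hχ => ?_)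
      · rw [hMone, hMone]
        have e1 : ∀ s, ‖(E.mu s : G → ℂ) g‖ = ‖(E.mu s₀ : G → ℂ) g‖ := fun s => by
          rw [E.const g hgA s s₀]
        have e2 : ∀ s, w (E.mu s) = W / ((E.m : ℝ) * D) := fun s =>
          if_pos (Finset.mem_image_of_mem _ (Finset.mem_univ s))
        simp only [e1, e2, Finset.sum_const, Finset.card_univ, Fintype.card_fin, nsmul_eq_mul]
        calc _ ≤ ∑ s, ‖(E.mu s : G → ℂ) x‖ ^ 2 * ‖(E.mu s₀ : G → ℂ) g‖ / (D : ℝ) := by
              refine Finset.sum_le_sum fun s _ => ?_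
              have hdeg : (D : ℝ) ≤ (H12.degree (E.mu s : G → ℂ) : ℝ) := by exact_mod_cast hD s
              rw [norm_div, norm_mul, norm_mul, RCLike.norm_conj, H12.irr_apply_one (E.mu s),
                Complex.norm_natCast, e1 s, ← sq]
              exact div_le_div_of_nonneg_left (by positivity) hDpos hdeg
          _ = _ := by
              rw [← Finset.sum_div, ← Finset.sum_mul, ← hW]
              field_simp
      · obtain ⟨hχS, hχM⟩ := Finset.mem_filter.1 hχ
        have hdeg : (d : ℝ) ≤ (H12.degree (χ : G → ℂ) : ℝ) := by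
          exact_mod_cast hd χ (Finset.ne_of_mem_erase hχS)
        have hv : (χ : G → ℂ) x = (E.b χ : ℂ) := E.val χ (fun s e' => hχM (by
          rw [e']; exact Finset.mem_image_of_mem _ (Finset.mem_univ s))) x hx hx1
        rw [show w χ = (E.b χ : ℝ) ^ 2 / d from if_neg hχM, norm_div, norm_mul, norm_mul,
          RCLike.norm_conj, H12.irr_apply_one χ, Complex.norm_natCast, hv, Complex.norm_intCast,
          ← sq, sq_abs, div_mul_eq_mul_div]
        exact div_le_div_of_nonneg_left (by positivity) hdpos hdeg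
    rwa [hT, norm_neg, norm_one] at e0
  have h2 := Finset.sum_mul_sq_le_sq_mul_sq S w (fun χ => ‖(χ : G → ℂ) g‖)
  rw [hS, sum_norm_sq_erase g, ← hS] at h2
  have h3 : ∑ χ ∈ S, w χ ^ 2 ≤ 4 * (P : ℝ) / (d : ℝ) ^ 2 +
      ((Nat.card A : ℝ) - P - 1) ^ 2 / ((E.m : ℝ) * (D : ℝ) ^ 2) := by
    rw [← Finset.sum_filter_add_sum_filter_not S (fun χ => χ ∈ M), hMone, add_comm]
    refine add_le_add ?_ (le_of_eq ?_)
    · rw [← hbS, Finset.mul_sum, Finset.sum_div]
      refine (Finset.sum_le_sum fun χ hχ => ?_).trans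
        (Finset.sum_le_sum_of_subset_of_nonneg (Finset.filter_subset _ _) fun _ _ _ => by positivity)
      obtain ⟨hχS, hχM⟩ := Finset.mem_filter.1 hχ
      have hb : (E.b χ : ℝ) ^ 2 ≤ 4 := by
        have hle : (E.b χ) ^ 2 ≤ 8 := by
          have h8 := Finset.single_le_sum (f := fun χ => (E.b χ : ℝ) ^ 2)
            (fun i _ => sq_nonneg _) hχS
          rw [hbS] at h8
          have : (E.b χ : ℝ) ^ 2 ≤ 8 := h8.trans (by exact_mod_cast hP8)
          exact_mod_cast this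
        have hb2 : E.b χ ≤ 2 ∧ -2 ≤ E.b χ := ⟨by nlinarith, by nlinarith⟩
        have : (E.b χ) ^ 2 ≤ 4 := by nlinarith [hb2.1, hb2.2]
        exact_mod_cast this
      rw [show w χ = (E.b χ : ℝ) ^ 2 / d from if_neg hχM, div_pow]
      gcongr
      nlinarith [sq_nonneg (E.b χ : ℝ)]
    · rw [Finset.sum_congr rfl (g := fun _ => (W / ((E.m : ℝ) * D)) ^ 2) fun s _ => by
          rw [show w (E.mu s) = _ from if_pos (Finset.mem_image_of_mem _ (Finset.mem_univ s))],
        Finset.sum_const, Finset.card_univ, Fintype.card_fin, nsmul_eq_mul, ← hWv]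
      field_simp
  have hC0 : (0 : ℝ) ≤ (Nat.card (Subgroup.centralizer ({g} : Set G)) : ℝ) - 1 := by
    rw [← sum_norm_sq_erase g]; positivity
  nlinarith [mul_le_mul_of_nonneg_right h3 hC0]

end H53.ReeSq
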