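import Cfsg.Agent.H53.ReeSq.Basic
import Cfsg.Agent.H52.ReeKleinTorus

/-!
Targets inside the centraliser `2 × PSL₂(q)` of an involution of a small Ree group.
-/

set_option autoImplicit false
set_option linter.unusedSectionVars false

namespace H53.ReeSq

open H52.Ree2

section SLTwo

variable {K : Type*} [Field K] [Fintype K]

local notation "S2" => Matrix.SpecialLinearGroup (Fin 2) K
local notation "P2" => Matrix.ProjectiveSpecialLinearGroup (Fin 2) K

/-- An element given by its entries. -/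
def mkS (a b c d : K) (h : a * d - b * c = 1) : S2 :=
  ⟨!![a, b; c, d], by rw [Matrix.det_fin_two_of]; exact h⟩

theorem val_mkS {a b c d : K} {h : a * d - b * c = 1} :
    ((mkS a b c d h : S2) : Matrix (Fin 2) (Fin 2) K) = !![a, b; c, d] := rfl

/-- The trace of an element of `SL₂`. -/
def tr2 (A : S2) : K := A 0 0 + A 1 1

theorem det2 (A : S2) : A 0 0 * A 1 1 - A 0 1 * A 1 0 = 1 := by
  have h := A.det_coe
  rwa [Matrix.det_fin_two] at h

/-- Minus the identity. -/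
def negOne : S2 := ⟨-1, by simp [Matrix.det_fin_two]⟩

theorem val_negOne : ((negOne : S2) : Matrix (Fin 2) (Fin 2) K) = -1 := rfl

theorem negOne_mul_apply (A : S2) (i j : Fin 2) : (negOne * A : S2) i j = -(A i j) := by
  simp [val_negOne]

theorem tr2_negOne (A : S2) : tr2 (negOne * A) = -tr2 A := by
  simp only [tr2, negOne_mul_apply]; ring

theorem negOne_central : (negOne : S2) ∈ Subgroup.center S2 :=
  Subgroup.mem_center_iff.2 fun g => by
    apply Subtype.ext; simp [val_negOne, Matrix.SpecialLinearGroup.coe_mul]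

theorem mk_negOne (A : S2) : ((negOne * A : S2) : P2) = (A : P2) := by
  rw [QuotientGroup.mk_mul, (QuotientGroup.eq_one_iff (negOne : S2)).2 negOne_central, one_mul]

theorem scalar_central (A : S2) (h01 : A 0 1 = 0) (h10 : A 1 0 = 0) (h : A 0 0 = A 1 1) :
    (A : P2) = 1 := by
  refine (QuotientGroup.eq_one_iff A).2 (Subgroup.mem_center_iff.2 fun g => ?_)
  ext i j
  fin_cases i <;> fin_cases j <;>
    simp [Matrix.mul_apply, Fin.sum_univ_two, h01, h10, h, mul_comm]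

theorem exists_rep_one (h2 : (2 : K) ≠ 0) (hodd : Fintype.card K % 2 = 1) {α β γ : K}
    (hD : β ^ 2 - 4 * α * γ ≠ 0) : ∃ x y : K, α * x ^ 2 + β * x * y + γ * y ^ 2 = 1 := by
  by_cases hα : α = 0
  · subst hα
    have hβ : β ≠ 0 := fun h => hD (by rw [h]; ring)
    exact ⟨(1 - γ) / β, 1, by field_simp; ring⟩
  · have h4 : (4 : K) * α ≠ 0 :=
      mul_ne_zero (by rw [show (4 : K) = 2 * 2 by norm_num]; exact mul_ne_zero h2 h2) hα
    have h22 : (4 : K) ≠ 0 := left_ne_zero_of_mul h4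
    have hc : -(β ^ 2 - 4 * α * γ) / (4 * α) ≠ 0 := div_ne_zero (neg_ne_zero.2 hD) h4
    obtain ⟨X, y, hXy⟩ := FiniteField.exists_root_sum_quadratic
      (f := Polynomial.C α * Polynomial.X ^ 2 + Polynomial.C 0 * Polynomial.X + Polynomial.C (-1))
      (g := Polynomial.C (-(β ^ 2 - 4 * α * γ) / (4 * α)) * Polynomial.X ^ 2 +
        Polynomial.C 0 * Polynomial.X + Polynomial.C 0)
      (Polynomial.degree_quadratic hα) (Polynomial.degree_quadratic hc) hodd
    refine ⟨X - β * y / (2 * α), y, ?_⟩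
    simp only [Polynomial.eval_add, Polynomial.eval_mul, Polynomial.eval_C, Polynomial.eval_pow,
      Polynomial.eval_X] at hXy
    field_simp at hXy ⊢
    linear_combination hXy

/-- The companion element. -/
def comp2 (a : K) : S2 := mkS 0 (-1) 1 a (by ring)

theorem isConj_comp2 (h2 : (2 : K) ≠ 0) (hodd : Fintype.card K % 2 = 1) (B : S2)
    (ha : tr2 B ^ 2 ≠ 4) : IsConj (comp2 (tr2 B)) B := by
  have hd := det2 B
  obtain ⟨x, y, hxy⟩ := exists_rep_one h2 hodd (α := B 1 0) (β := B 1 1 - B 0 0) (γ := -(B 0 1))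
    (fun h => ha (by simp only [tr2]; linear_combination h + 4 * hd))
  let P : S2 := mkS x (B 0 0 * x + B 0 1 * y) y (B 1 0 * x + B 1 1 * y)
    (by linear_combination hxy)
  refine isConj_iff.2 ⟨P, mul_inv_eq_iff_eq_mul.2 ?_⟩
  ext i j
  fin_cases i <;> fin_cases j <;>
    simp [P, comp2, val_mkS, tr2, Matrix.SpecialLinearGroup.coe_mul, Matrix.mul_apply, Fin.sum_univ_two]
  · linear_combination x * hd
  · linear_combination y * hd

theorem mk_isConj (h2 : (2 : K) ≠ 0) (hodd : Fintype.card K % 2 = 1) {A B : S2}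
    (ha : tr2 A ^ 2 ≠ 4) (hB : tr2 B = tr2 A ∨ tr2 B = -tr2 A) : IsConj (A : P2) (B : P2) := by
  have key : ∀ C : S2, tr2 C = tr2 A → IsConj (A : P2) (C : P2) := fun C hC => by
    have h1 := isConj_comp2 h2 hodd A ha
    have h3 := isConj_comp2 h2 hodd C (hC ▸ ha)
    rw [hC] at h3
    exact MonoidHom.map_isConj (QuotientGroup.mk' (Subgroup.center S2)) (h1.symm.trans h3)
  rcases hB with hB | hB
  · exact key B hB
  · have h := key (negOne * B) (by rw [tr2_negOne, hB, neg_neg])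
    rwa [mk_negOne] at h

theorem trace_ne (h3 : (3 : K) = 0) {A : S2} (hp : (A : P2) * (A : P2) ≠ 1)
    (hp3 : ¬ 3 ∣ orderOf (A : P2)) : tr2 A ≠ 0 ∧ tr2 A ^ 2 ≠ 4 := by
  have hd := det2 A
  refine ⟨fun h => hp ?_, fun h => ?_⟩
  · simp only [tr2] at h
    rw [← QuotientGroup.mk_mul]
    apply scalar_central <;> simp [Matrix.mul_apply, Fin.sum_univ_two]
    · linear_combination A 0 1 * h
    · linear_combination A 1 0 * h
    · linear_combination (A 0 0 - A 1 1) * h
  · have h1 : (A : P2) ^ 3 = 1 := by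
      rw [pow_succ, pow_two, ← QuotientGroup.mk_mul, ← QuotientGroup.mk_mul]
      simp only [tr2] at h
      apply scalar_central <;> simp [Matrix.mul_apply, Fin.sum_univ_two]
      · linear_combination A 0 1 * (h - hd + h3)
      · linear_combination A 1 0 * (h - hd + h3)
      · linear_combination (A 0 0 - A 1 1) * (h - hd + h3)
    rcases (Nat.dvd_prime Nat.prime_three).1 (orderOf_dvd_of_pow_eq_one h1) with e | e
    · exact hp (by rw [orderOf_eq_one_iff.1 e, one_mul])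
    · exact hp3 (by rw [e])

theorem mk_isConj_inv (h2 : (2 : K) ≠ 0) (hodd : Fintype.card K % 2 = 1) {A : S2}
    (ha : tr2 A ^ 2 ≠ 4) : IsConj (A : P2) (A : P2)⁻¹ := by
  rw [← QuotientGroup.mk_inv]
  refine mk_isConj h2 hodd ha (Or.inl ?_)
  simp only [tr2, Matrix.SpecialLinearGroup.coe_inv, Matrix.adjugate_fin_two]
  simp [add_comm]

/-- A fixed element of order four. -/
def quarter : S2 := mkS 0 1 (-1) 0 (by ring)

theorem quarter_ne : ((quarter : S2) : P2) ≠ 1 := fun h => by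
  have h1 := Subgroup.mem_center_iff.1 ((QuotientGroup.eq_one_iff (quarter : S2)).1 h)
    (mkS 1 1 0 1 (by ring))
  have h2 := congrFun (congrFun (congrArg Subtype.val h1) 0) 0
  simp [quarter, val_mkS, Matrix.mul_apply, Fin.sum_univ_two] at h2

theorem quarter_sq : ((quarter : S2) : P2) * ((quarter : S2) : P2) = 1 := by
  rw [← QuotientGroup.mk_mul]
  apply scalar_central <;> simp [quarter, val_mkS, Matrix.mul_apply, Fin.sum_univ_two]

theorem quarter_split (h2 : (2 : K) ≠ 0) (hodd : Fintype.card K % 2 = 1) {A : S2}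
    (ha : tr2 A ^ 2 ≠ 4) :
    ∃ p₁ p₂ : P2, IsConj (A : P2) p₁ ∧ IsConj (A : P2) p₂ ∧ p₁ * p₂ = ((quarter : S2) : P2) := by
  set a := tr2 A with hadef
  have hm1 : (-1 : K) ≠ 0 := neg_ne_zero.2 one_ne_zero
  obtain ⟨r, w, hrw⟩ := FiniteField.exists_root_sum_quadratic
    (f := Polynomial.C (-1) * Polynomial.X ^ 2 + Polynomial.C a * Polynomial.X + Polynomial.C (-1))
    (g := Polynomial.C (-1) * Polynomial.X ^ 2 + Polynomial.C (-a) * Polynomial.X + Polynomial.C 0)
    (Polynomial.degree_quadratic hm1) (Polynomial.degree_quadratic hm1) hodd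
  simp only [Polynomial.eval_add, Polynomial.eval_mul, Polynomial.eval_C, Polynomial.eval_pow,
    Polynomial.eval_X] at hrw
  let M : S2 := mkS r (w + a) w (a - r) (by linear_combination hrw)
  refine ⟨(M : P2), ((M⁻¹ * quarter : S2) : P2), mk_isConj h2 hodd ha (Or.inl ?_),
    mk_isConj h2 hodd ha (Or.inl ?_), ?_⟩
  · simp [M, val_mkS, tr2]; exact hadef
  · simp only [tr2, Matrix.SpecialLinearGroup.coe_mul, Matrix.SpecialLinearGroup.coe_inv,
      Matrix.adjugate_fin_two]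
    simp [M, quarter, val_mkS]; exact hadef
  · rw [← QuotientGroup.mk_mul, mul_inv_cancel_left]

theorem transl_split (h2 : (2 : K) ≠ 0) (hodd : Fintype.card K % 2 = 1) {A : S2}
    (ha : tr2 A ^ 2 ≠ 4) (ha0 : tr2 A ≠ 0) {s : K} (hs : s ≠ 0) :
    ∃ p₁ p₂ : P2, IsConj (A : P2) p₁ ∧ IsConj (A : P2) p₂ ∧
      p₁ * p₂ = ((mkS 1 s 0 1 (by ring) : S2) : P2) := by
  set a := tr2 A with hadef
  have hw : 2 * a / s ≠ 0 := div_ne_zero (mul_ne_zero h2 ha0) hs
  let M : S2 := mkS 0 (-(2 * a / s)⁻¹) (2 * a / s) a (by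
    rw [zero_mul, neg_mul, inv_mul_cancel₀ hw]; ring)
  refine ⟨(M : P2), ((M⁻¹ * mkS 1 s 0 1 (by ring) : S2) : P2),
    mk_isConj h2 hodd ha (Or.inl ?_), mk_isConj h2 hodd ha (Or.inr ?_), ?_⟩
  · simp [M, val_mkS, tr2]; exact hadef
  · simp only [tr2, Matrix.SpecialLinearGroup.coe_mul, Matrix.SpecialLinearGroup.coe_inv,
      Matrix.adjugate_fin_two]
    simp [M, val_mkS]
    field_simp
    rw [hadef, tr2]
    ring
  · rw [← QuotientGroup.mk_mul, mul_inv_cancel_left]

theorem order_three_transl (h3 : (3 : K) = 0) (h : P2) (hh : orderOf h = 3) :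
    ∃ s : K, s ≠ 0 ∧
      IsConj ((mkS 1 s 0 1 (by ring) : S2) : P2) h := by
  obtain ⟨H, rfl⟩ := QuotientGroup.mk_surjective h
  have hne : (H : P2) ≠ 1 := fun e => by rw [e, orderOf_one] at hh; omega
  have h1 : (H : P2) ^ 3 = 1 := hh ▸ pow_orderOf_eq_one _
  rw [pow_succ, pow_two, ← QuotientGroup.mk_mul, ← QuotientGroup.mk_mul,
    QuotientGroup.eq_one_iff, Subgroup.mem_center_iff] at h1
  have hd := det2 H
  have e01 := congrFun (congrFun (congrArg Subtype.val
    (h1 (mkS 1 1 0 1 (by ring)))) 0) 1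
  have e00 := congrFun (congrFun (congrArg Subtype.val
    (h1 (mkS 1 1 0 1 (by ring)))) 0) 0
  have e11 := congrFun (congrFun (congrArg Subtype.val
    (h1 (mkS 1 0 1 1 (by ring)))) 1) 1
  simp [val_mkS, Matrix.mul_apply, Fin.sum_univ_two] at e01 e00 e11
  have hsq : tr2 H ^ 2 = 1 := by
    by_contra hb
    have hb' : tr2 H ^ 2 - 1 ≠ 0 := sub_ne_zero.2 hb
    refine hne (scalar_central H (mul_left_cancel₀ hb' ?_) (mul_left_cancel₀ hb' ?_)
      (mul_left_cancel₀ hb' ?_)) <;> simp only [tr2]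
    · linear_combination e11 + H 0 1 * hd
    · linear_combination e00 + H 1 0 * hd
    · linear_combination (H 0 0 - H 1 1) * hd - e01
  obtain ⟨H', hH', ht⟩ : ∃ H' : S2, (H' : P2) = (H : P2) ∧ tr2 H' = 2 := by
    rcases sq_eq_one_iff.1 hsq with e | e
    · exact ⟨negOne * H, mk_negOne H, by rw [tr2_negOne, e]; linear_combination -h3⟩
    · exact ⟨H, rfl, by rw [e]; linear_combination -h3⟩
  clear e01 e00 e11 hsq hd
  have hd := det2 H'
  simp only [tr2] at ht
  have hN : H' 0 1 ≠ 0 ∨ H' 1 0 ≠ 0 := by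
    by_contra hc
    push Not at hc
    refine hne (hH' ▸ scalar_central H' hc.1 hc.2 ?_)
    have : (H' 0 0 - H' 1 1) ^ 2 = 0 := by
      linear_combination (H' 0 0 + H' 1 1 + 2) * ht - 4 * hd - 4 * H' 1 0 * hc.1
    exact sub_eq_zero.1 (sq_eq_zero_iff.1 this)
  have key : ∀ x y d : K, d ≠ 0 →
      ((H' 0 0 - 1) * x + H' 0 1 * y) * y - (H' 1 0 * x + (H' 1 1 - 1) * y) * x = d →
      IsConj ((mkS 1 d 0 1 (by ring) : S2)) H' := by
    intro x y d hd0 hxy
    let P : S2 := mkS (((H' 0 0 - 1) * x + H' 0 1 * y) / d) x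
      ((H' 1 0 * x + (H' 1 1 - 1) * y) / d) y (by field_simp; linear_combination hxy)
    refine isConj_iff.2 ⟨P, mul_inv_eq_iff_eq_mul.2 ?_⟩
    ext i j
    fin_cases i <;> fin_cases j <;>
      simp [P, val_mkS, Matrix.mul_apply, Fin.sum_univ_two] <;> field_simp
    · linear_combination x * hd - (x * H' 0 0 + H' 0 1 * y) * ht
    · ring
    · linear_combination y * hd - (y * H' 1 1 + H' 1 0 * x) * ht
    · ring
  rcases hN with hN | hN
  · refine ⟨_, hN, hH' ▸ MonoidHom.map_isConj (QuotientGroup.mk' (Subgroup.center S2))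
      (key 0 1 _ hN (by ring))⟩
  · refine ⟨_, neg_ne_zero.2 hN, hH' ▸ MonoidHom.map_isConj (QuotientGroup.mk' (Subgroup.center S2))
      (key 1 0 _ (neg_ne_zero.2 hN) (by ring))⟩

end SLTwo

section Ree

variable {K : Type*} [Field K] [Fintype K] {m : ℕ}

theorem exists_eC (hK : Fintype.card K = 3 ^ (2 * m + 1)) {x : ↥(RG K m)}
    (hxc : x * jG hK = jG hK * x) :
    ∃ (s : Multiplicative (ZMod 2)) (A : Matrix.SpecialLinearGroup (Fin 2) K),
      eC hK (s, (A : Matrix.ProjectiveSpecialLinearGroup (Fin 2) K)) = x := by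
  have h : x ∈ (eC hK).range := by
    rw [(eC_spec hK).2.2]; exact Subgroup.mem_centralizer_singleton_iff.2 hxc
  obtain ⟨⟨s, p⟩, hp⟩ := h
  obtain ⟨A, rfl⟩ := QuotientGroup.mk_surjective p
  exact ⟨s, A, hp⟩

theorem field_facts (hK : Fintype.card K = 3 ^ (2 * m + 1)) :
    (3 : K) = 0 ∧ (2 : K) ≠ 0 ∧ Fintype.card K % 2 = 1 := by
  have h3 : (3 : K) = 0 := three_eq_zero hK
  exact ⟨h3, fun h => one_ne_zero (show (1 : K) = 0 by linear_combination h3 - h),
    Nat.odd_iff.1 (odd_card hK)⟩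

theorem rep_facts (hK : Fintype.card K = 3 ^ (2 * m + 1)) {s : Multiplicative (ZMod 2)}
    {A : Matrix.SpecialLinearGroup (Fin 2) K} {x : ↥(RG K m)}
    (he : eC hK (s, (A : Matrix.ProjectiveSpecialLinearGroup (Fin 2) K)) = x)
    (hx2 : x * x ≠ 1) (hx3 : ¬ 3 ∣ orderOf x) : tr2 A ≠ 0 ∧ tr2 A ^ 2 ≠ 4 := by
  refine trace_ne (field_facts hK).1 (fun h => hx2 ?_) fun h => hx3 ?_
  · rw [← he, ← map_mul, Prod.mk_mul_mk, h, zmod_two_sq hK]; exact map_one _
  · rw [← he, orderOf_injective _ (eC_spec hK).1, Prod.orderOf_mk]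
    exact h.trans (Nat.dvd_lcm_right _ _)

theorem prodTwo_eC (hK : Fintype.card K = 3 ^ (2 * m + 1)) {s : Multiplicative (ZMod 2)}
    {p p₁ p₂ : Matrix.ProjectiveSpecialLinearGroup (Fin 2) K} (h₁ : IsConj p p₁) (h₂ : IsConj p p₂) :
    ProdTwo (eC hK (s, p)) (eC hK (1, p₁ * p₂)) := by
  have hc : ∀ q, IsConj p q → IsConj (eC hK (s, p)) (eC hK (s, q)) := fun q hq => by
    obtain ⟨c, rfl⟩ := isConj_iff.1 hq
    exact isConj_iff.2 ⟨eC hK (1, c), by
      rw [← map_inv, ← map_mul, ← map_mul]; simp [mul_assoc]⟩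
  refine ProdTwo.of_isConj (hc _ h₁) (hc _ h₂) ?_
  rw [← map_mul, Prod.mk_mul_mk, zmod_two_sq hK]

/-- Elements commuting with the involution are real. -/
theorem cent_real (hK : Fintype.card K = 3 ^ (2 * m + 1)) (hm : 1 ≤ m) {x : ↥(RG K m)}
    (hxc : x * jG hK = jG hK * x) (hx2 : x * x ≠ 1) (hx3 : ¬ 3 ∣ orderOf x) : IsConj x x⁻¹ := by
  obtain ⟨s, A, he⟩ := exists_eC hK hxc
  obtain ⟨-, ha⟩ := rep_facts hK he hx2 hx3
  obtain ⟨h3, h2, hodd⟩ := field_facts hK
  obtain ⟨c, hc⟩ := isConj_iff.1 (mk_isConj_inv h2 hodd ha)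
  refine isConj_iff.2 ⟨eC hK (1, c), ?_⟩
  rw [← he, ← map_inv, ← map_inv, ← map_mul, ← map_mul]
  refine congrArg _ (Prod.ext ?_ ?_)
  · show 1 * s * (1 : Multiplicative (ZMod 2))⁻¹ = s⁻¹
    rw [inv_eq_of_mul_eq_one_right (zmod_two_sq hK s)]; simp
  · simpa using hc

/-- Every involution is a product of two conjugates. -/
theorem prodTwo_invol (hK : Fintype.card K = 3 ^ (2 * m + 1)) (hm : 1 ≤ m) {x : ↥(RG K m)}
    (hxc : x * jG hK = jG hK * x) (hx2 : x * x ≠ 1) (hx3 : ¬ 3 ∣ orderOf x)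
    (g : ↥(RG K m)) (hg : orderOf g = 2) : ProdTwo x g := by
  obtain ⟨s, A, he⟩ := exists_eC hK hxc
  obtain ⟨-, ha⟩ := rep_facts hK he hx2 hx3
  obtain ⟨h3, h2, hodd⟩ := field_facts hK
  obtain ⟨p₁, p₂, h₁, h₂, hp⟩ := quarter_split h2 hodd ha
  have key := prodTwo_eC hK (s := s) h₁ h₂
  rw [he, hp] at key
  set i : ↥(RG K m) := eC hK (1, ((quarter : Matrix.SpecialLinearGroup (Fin 2) K) :
    Matrix.ProjectiveSpecialLinearGroup (Fin 2) K)) with hidef
  have hi1 : i ≠ 1 := fun e => quarter_ne (congrArg Prod.snd ((eC_spec hK).1 (e.trans (map_one _).symm)))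
  have hi2 : i * i = 1 := by
    rw [hidef, ← map_mul, Prod.mk_mul_mk, mul_one, quarter_sq]; exact map_one _
  have hgg : g * g = 1 := by rw [← sq, ← hg]; exact pow_orderOf_eq_one g
  obtain ⟨u, hu⟩ := involution_conj hK hm (x := g) (fun e => by rw [e, orderOf_one] at hg; omega) hgg
  obtain ⟨v, hv⟩ := involution_conj hK hm hi1 hi2
  have := key.conj (u * v⁻¹)
  rwa [show u * v⁻¹ * i * (u * v⁻¹)⁻¹ = g by rw [← hv, ← hu]; group] at this

/-- Every element of order three commuting with the involution is a product of two conjugates. -/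
theorem prodTwo_three (hK : Fintype.card K = 3 ^ (2 * m + 1)) (hm : 1 ≤ m) {x : ↥(RG K m)}
    (hxc : x * jG hK = jG hK * x) (hx2 : x * x ≠ 1) (hx3 : ¬ 3 ∣ orderOf x)
    (g : ↥(RG K m)) (hg : orderOf g = 3) (hgc : g * jG hK = jG hK * g) : ProdTwo x g := by
  obtain ⟨s, A, he⟩ := exists_eC hK hxc
  obtain ⟨ha0, ha⟩ := rep_facts hK he hx2 hx3
  obtain ⟨h3, h2, hodd⟩ := field_facts hK
  obtain ⟨u, H, hH⟩ := exists_eC hK hgc
  have h31 : eC hK (u, (H : Matrix.ProjectiveSpecialLinearGroup (Fin 2) K)) ^ 3 = g ^ 3 := by rw [hH]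
  rw [← hg, pow_orderOf_eq_one, hg, ← map_pow, ← map_one (eC hK)] at h31
  have hu : u = 1 := zmod_two_odd hK (by decide) (congrArg Prod.fst ((eC_spec hK).1 h31))
  subst hu
  have hord : orderOf (H : Matrix.ProjectiveSpecialLinearGroup (Fin 2) K) = 3 := by
    have := hg
    rwa [← hH, orderOf_injective _ (eC_spec hK).1, Prod.orderOf_mk, orderOf_one, Nat.lcm_one_left]
      at this
  obtain ⟨t, ht, hconj⟩ := order_three_transl h3 _ hord
  obtain ⟨c, hc⟩ := isConj_iff.1 hconj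
  obtain ⟨p₁, p₂, h₁, h₂, hp⟩ := transl_split h2 hodd ha ha0 ht
  have key := (prodTwo_eC hK (s := s) h₁ h₂).conj (eC hK (1, c))
  rw [he, hp, ← map_inv, ← map_mul, ← map_mul] at key
  rw [← hH]
  simpa [hc] using key

end Ree

end H53.ReeSq
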