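import Cfsg.Agent.H53.ReeSq.TorusProd

/-!
Every nontrivial element is a product of two conjugates of a semisimple element.
-/

set_option autoImplicit false
set_option linter.unusedSectionVars false

open Cfsg

namespace H53.ReeSq

open H52.Ree2 Cfsg.Lie

variable {K : Type*} [Field K] [Fintype K] {m : ℕ} (hK : Fintype.card K = 3 ^ (2 * m + 1))
variable [Fintype ↥(RG K m)]
include hK

theorem prodTwo_generic (hm : 1 ≤ m) {x g : ↥(RG K m)}
    (hx : Nat.card ↥(Subgroup.centralizer {x}) ≤ 3 ^ (2 * m + 1) + rr m + 1)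
    (h1 : orderOf g ≠ 1) (h2 : orderOf g ≠ 2) (h3 : orderOf g ≠ 3) : ProdTwo x g := by
  classical
  obtain ⟨hr2, -, hq27⟩ := rr_facts m hm
  obtain ⟨hN1, -⟩ := qN_eq m
  have hr9 : 9 ≤ rr m :=
    le_trans (by norm_num) (Nat.pow_le_pow_right (by norm_num) (show 2 ≤ m + 1 by omega))
  have hg := cent_small hK hm h1 h2 h3
  refine ProdTwo.of_bound (d := qN m) (fun χ hχ => degree_ge hK hm χ hχ) ?_
  have hcx : (1 : ℕ) ≤ Nat.card ↥(Subgroup.centralizer ({x} : Set ↥(RG K m))) := Nat.card_pos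
  generalize qN m = N at hN1 ⊢
  generalize rr m = r at hr2 hr9 hx
  generalize 3 ^ (2 * m + 1) = q at *
  generalize Nat.card ↥(Subgroup.centralizer ({x} : Set ↥(RG K m))) = c at *
  generalize Nat.card ↥(Subgroup.centralizer ({g} : Set ↥(RG K m))) = e at *
  have hqR : (27 : ℝ) ≤ q := by exact_mod_cast hq27
  have hr2R : (r : ℝ) ^ 2 = 3 * q := by exact_mod_cast hr2
  have hr9R : (9 : ℝ) ≤ r := by exact_mod_cast hr9
  have hxR : (c : ℝ) ≤ q + r + 1 := by exact_mod_cast hx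
  have hc1 : (1 : ℝ) ≤ c := by exact_mod_cast hcx
  have hgR : (e : ℝ) ≤ 3 * q := by exact_mod_cast hg
  have hN : (N : ℝ) = (q : ℝ) ^ 2 - q + 1 := by
    have : (N : ℝ) + q = (q : ℝ) ^ 2 + 1 := by exact_mod_cast hN1
    linarith
  have hr3 : 3 * (r : ℝ) ≤ q := by nlinarith
  have h4 : ((c : ℝ) - 1) ^ 2 ≤ (4 / 3 * (q : ℝ)) ^ 2 :=
    pow_le_pow_left₀ (by linarith) (by linarith) 2
  have hd : (0.9 : ℝ) * (q : ℝ) ^ 2 ≤ N := by rw [hN]; nlinarith
  calc ((c : ℝ) - 1) ^ 2 * ((e : ℝ) - 1) ≤ ((c : ℝ) - 1) ^ 2 * (3 * q) :=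
        mul_le_mul_of_nonneg_left (by linarith) (sq_nonneg _)
    _ ≤ (4 / 3 * (q : ℝ)) ^ 2 * (3 * q) := mul_le_mul_of_nonneg_right h4 (by positivity)
    _ < (0.9 * (q : ℝ) ^ 2) ^ 2 := by nlinarith [pow_pos (show (0 : ℝ) < q by linarith) 3]
    _ ≤ (N : ℝ) ^ 2 := pow_le_pow_left₀ (by positivity) hd 2

theorem jG_mem_HG : jG hK ∈ HG K m :=
  Subgroup.mem_subgroupOf.2 (jR_mem hK)

theorem prodTwo_U {x u : ↥(RG K m)} (hx : x ∈ HG K m) (hx2 : x * x ≠ 1) (hreal : IsConj x x⁻¹)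
    (hu : u ∈ UG K m) : ProdTwo x u :=
  ProdTwo.of_isConj hreal (isConj_twist hK hx hx2 hu) (inv_mul_cancel_left x u)

/-- The main theorem, given the facts inside the centraliser of an involution. -/
theorem prodTwo_all (hm : 1 ≤ m)
    (hreal : ∀ x : ↥(RG K m), x * jG hK = jG hK * x → x * x ≠ 1 → ¬ 3 ∣ orderOf x → IsConj x x⁻¹)
    (hinv : ∀ x : ↥(RG K m), x * jG hK = jG hK * x → x * x ≠ 1 → ¬ 3 ∣ orderOf x →
      ∀ g, orderOf g = 2 → ProdTwo x g)
    (hthree : ∀ x : ↥(RG K m), x * jG hK = jG hK * x → x * x ≠ 1 → ¬ 3 ∣ orderOf x →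
      ∀ g, orderOf g = 3 → g * jG hK = jG hK * g → ProdTwo x g)
    (hπ : classInner (indFun (RBsub K m) (1 : ↥(RBsub K m) → ℂ))
      (indFun (RBsub K m) (1 : ↥(RBsub K m) → ℂ)) = 2)
    (hcenter : ∀ x : ↥(RG K m), x ∈ L0 hK → x * x ≠ 1 → IsConj x x⁻¹ →
      ProdTwo x (uG hK 0 0 1))
    {x : ↥(RG K m)} (hx2 : 2 < orderOf x) (hx3 : ¬ 3 ∣ orderOf x) {g : ↥(RG K m)} (hg : g ≠ 1) :
    ProdTwo x g := by
  classical
  have hxx : x * x ≠ 1 := (sq_ne_iff hK).1 fun h => by have := Nat.le_of_dvd two_pos h; omega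
  have hg1 : orderOf g ≠ 1 := fun h => hg (orderOf_eq_one_iff.1 h)
  have hx9 : ¬ orderOf x ∣ 9 := fun h => by
    rcases (Nat.dvd_prime_pow Nat.prime_three (m := 2)).1 h with ⟨k, hk, e⟩
    rcases Nat.eq_zero_or_pos k with rfl | hk0
    · rw [e] at hx2; omega
    · exact hx3 (e ▸ dvd_pow_self 3 hk0.ne')
  have hconj : ∀ c : ↥(RG K m), IsConj x (c⁻¹ * x * c) := fun c => isConj_iff.2 ⟨c⁻¹, by group⟩
  rcases ss_cases hK hm (by omega) (by omega) hx9 (fun h => hx3 (by rw [h]; norm_num)) with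
    ⟨c, hc, -⟩ | ⟨c, hc, -⟩ | ⟨hxN, hx1⟩
  · -- the split torus
    refine ProdTwo.conj_left (hconj c) ?_
    have h3' : ¬ 3 ∣ orderOf (c⁻¹ * x * c) := by rwa [orderOf_conj_inv hK]
    have hxx' : c⁻¹ * x * c * (c⁻¹ * x * c) ≠ 1 := by
      rw [show c⁻¹ * x * c * (c⁻¹ * x * c) = c⁻¹ * (x * x) * c by group]
      exact fun e => hxx ((conj_eq_one' hK).1 e)
    generalize c⁻¹ * x * c = y at hc h3' hxx' ⊢
    have hcj : y * jG hK = jG hK * y := by
      have h := jG_mem_HG hK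
      rw [← centralizer_HG hK hc hxx'] at h
      exact (Subgroup.mem_centralizer_singleton_iff.1 h).symm
    by_cases h2 : orderOf g = 2
    · exact hinv y hcj hxx' h3' g h2
    by_cases h3 : orderOf g = 3
    · obtain ⟨d, hd⟩ := three_cases hK h3
      have hU : d * g * d⁻¹ ∈ UG K m := by
        rcases hd with e | ⟨u, -, e⟩ <;> rw [e] <;>
          exact Subgroup.mem_subgroupOf.2 (uW_mem_U hK _ _ _)
      have := (prodTwo_U hK hc hxx' (hreal y hcj hxx' h3') hU).conj d⁻¹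
      rwa [show d⁻¹ * (d * g * d⁻¹) * d⁻¹⁻¹ = g by group] at this
    refine prodTwo_generic hK hm ?_ hg1 h2 h3
    rw [centralizer_HG hK hc hxx', (HG_cyclic hK).2]
    omega
  · -- the torus of order `q + 1`
    refine ProdTwo.conj_left (hconj c) ?_
    have h3' : ¬ 3 ∣ orderOf (c⁻¹ * x * c) := by rwa [orderOf_conj_inv hK]
    have hxx' : c⁻¹ * x * c * (c⁻¹ * x * c) ≠ 1 := by
      rw [show c⁻¹ * x * c * (c⁻¹ * x * c) = c⁻¹ * (x * x) * c by group]
      exact fun e => hxx ((conj_eq_one' hK).1 e)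
    generalize c⁻¹ * x * c = y at hc h3' hxx' ⊢
    have hcj : y * jG hK = jG hK * y := L0_comm hK hc (jG_mem_L0 hK)
    by_cases h2 : orderOf g = 2
    · exact hinv y hcj hxx' h3' g h2
    by_cases h3 : orderOf g = 3
    · obtain ⟨d, hd⟩ := three_cases hK h3
      have hP : ProdTwo y (d * g * d⁻¹) := by
        rcases hd with e | ⟨u, hu, e⟩ <;> rw [e]
        · exact hcenter y hc hxx' (hreal y hcj hxx' h3')
        · refine hthree y hcj hxx' h3' _ ?_ (uG_commute_j hK u)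
          rw [← e, show d * g * d⁻¹ = d⁻¹⁻¹ * g * d⁻¹ by group, orderOf_conj_inv hK, h3]
      have := hP.conj d⁻¹
      rwa [show d⁻¹ * (d * g * d⁻¹) * d⁻¹⁻¹ = g by group] at this
    refine prodTwo_generic hK hm ?_ hg1 h2 h3
    rw [centralizer_L0 hK hm hc hxx', L0_card hK, (q_arith m).1.symm]
    omega
  · -- the Singer tori
    by_cases h2 : orderOf g = 2
    · exact prodTwo_torus hK hπ hm hxN hx1 (Or.inl h2)
    by_cases h3 : orderOf g = 3
    · exact prodTwo_torus hK hπ hm hxN hx1 (Or.inr h3)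
    refine prodTwo_generic hK hm ?_ hg1 h2 h3
    rcases cent_qN hK hm hxN hx1 with e | e <;> rw [e]
    omega

end H53.ReeSq
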