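import Mathlib

/-!
Arithmetic of the degree bound for the exceptional characters of the Singer tori.
-/

set_option autoImplicit false

namespace H53.ReeSq

theorem int_dvd_of_dvd_two_mul {n X : ℤ} (ho : Odd n) (h : n ∣ 2 * X) : n ∣ X := by
  obtain ⟨j, rfl⟩ := ho
  obtain ⟨l, hl⟩ := h
  exact ⟨X - j * l, by linear_combination (-j) * hl⟩

/-- The lower bound for `D` from the congruences modulo the two tori and `(q-1)/2`. -/
theorem large_degree {q r s h D c : ℤ} (hq : 243 ≤ q) (hr : r * r = 3 * q) (hr0 : 0 ≤ r)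
    (hs : s = r ∨ s = -r) (hh : 2 * h = q - 1) (ho : Odd (q + s + 1)) (hD : 0 < D)
    (hdvd : h * (q - s + 1) ∣ D) (hc : c = 6 ∨ c = -6) (hn : (q + s + 1) ∣ D - c) :
    h * (q - s + 1) * (q + s + 1 - 6) ≤ D * (r + 3) := by
  obtain ⟨k, hk⟩ := hdvd
  obtain ⟨l, hl⟩ := hn
  have hss : s * s = 3 * q := by rcases hs with rfl | rfl <;> linarith
  have hn0 : 0 < q - s + 1 := by rcases hs with rfl | rfl <;> nlinarith
  have hh0 : 0 < h := by omega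
  have hk0 : 0 < k := pos_of_mul_pos_right (hk ▸ hD) (le_of_lt (mul_pos hh0 hn0))
  have hX : (q + s + 1) ∣ k * (s + 3) + c := by
    refine int_dvd_of_dvd_two_mul ho ⟨k * (q - 2 * s + 5) - 2 * l, ?_⟩
    linear_combination (-2) * hl + 2 * hk + (k * (q - s + 1)) * hh + 2 * k * hss
  have hr24 : 24 ≤ r := by nlinarith
  have hne : k * (s + 3) + c ≠ 0 := by
    rcases hs with rfl | rfl
    · have : 27 ≤ k * (s + 3) := by nlinarith
      omega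
    · have : k * (-r + 3) ≤ -21 := by nlinarith
      omega
  have hle : q + s + 1 ≤ k * (r + 3) + 6 := by
    have h1 := Int.le_of_dvd (by positivity) ((dvd_abs _ _).2 hX)
    refine h1.trans (abs_le.2 ⟨?_, ?_⟩) <;> rcases hs with rfl | rfl <;>
      rcases hc with rfl | rfl <;> nlinarith
  calc h * (q - s + 1) * (q + s + 1 - 6) ≤ h * (q - s + 1) * (k * (r + 3)) :=
        mul_le_mul_of_nonneg_left (by omega) (le_of_lt (mul_pos hh0 hn0))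
    _ = D * (r + 3) := by rw [hk]; ring

/-- The inequality for large fields. -/
theorem large_bound {q r s h D : ℤ} {cg n m : ℕ} (hq : 243 ≤ q) (hr : r * r = 3 * q) (hr0 : 0 ≤ r)
    (hs : s = r ∨ s = -r) (hh : 2 * h = q - 1) (hn : (n : ℤ) = q + s + 1) (hm : n = 6 * m + 1)
    (hD : h * (q - s + 1) * (q + s + 1 - 6) ≤ D * (r + 3)) (hD0 : 0 < D) (hc : (cg : ℤ) ≤ q ^ 3) :
    ((cg : ℝ) - 1) * (4 * (5 : ℝ) / ((q : ℝ) ^ 2 - q + 1) ^ 2 +
      ((n : ℝ) - 5 - 1) ^ 2 / ((m : ℝ) * (D : ℝ) ^ 2)) < 1 := by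
  have hr24 : 25 ≤ r := by nlinarith
  have hrq : r ≤ q := by nlinarith
  have hr9 : 25 * r ≤ 3 * q := by nlinarith
  have hnZ : (n : ℤ) - 6 ≤ q + r := by rcases hs with rfl | rfl <;> omega
  have hprod : (q - s + 1) * (q + s + 1 - 6) ≥ q ^ 2 - q + 1 - 6 * (q + r + 1) := by
    rcases hs with rfl | rfl <;> nlinarith
  have hn' : 0 ≤ q - s + 1 := by rcases hs with rfl | rfl <;> omega
  -- over the reals
  have hqR : (243 : ℝ) ≤ q := by exact_mod_cast hq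
  have hrR : (25 : ℝ) ≤ r := by exact_mod_cast hr24
  have hr9R : 25 * (r : ℝ) ≤ 3 * q := by exact_mod_cast hr9
  have hrrR : (r : ℝ) * r = 3 * q := by exact_mod_cast hr
  have hhR : 2 * (h : ℝ) = q - 1 := by exact_mod_cast hh
  have hcR : (cg : ℝ) ≤ (q : ℝ) ^ 3 := by exact_mod_cast hc
  have hDR : (h : ℝ) * (((q : ℝ) - s + 1) * (q + s + 1 - 6)) ≤ D * (r + 3) := by
    rw [← mul_assoc]; exact_mod_cast hD
  have hpR : ((q : ℝ) - s + 1) * (q + s + 1 - 6) ≥ (q : ℝ) ^ 2 - q + 1 - 6 * (q + r + 1) := by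
    exact_mod_cast hprod
  have hD1 : (0 : ℝ) < D := by exact_mod_cast hD0
  have hp2 : (0.94 : ℝ) * q ^ 2 ≤ ((q : ℝ) - s + 1) * (q + s + 1 - 6) := by nlinarith
  have h3 : (0.497 : ℝ) * q * (0.94 * q ^ 2) ≤ (h : ℝ) * (((q : ℝ) - s + 1) * (q + s + 1 - 6)) := by
    apply mul_le_mul (by linarith) hp2 (by positivity) (by linarith)
  have h4 : (0.41 : ℝ) * q ^ 3 ≤ (D : ℝ) * r := by nlinarith
  have h5 : (0.056 : ℝ) * q ^ 5 ≤ (D : ℝ) ^ 2 := by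
    have e := pow_le_pow_left₀ (by positivity) h4 2
    have e2 : ((D : ℝ) * r) ^ 2 = 3 * q * D ^ 2 := by rw [mul_pow, sq (r : ℝ), hrrR]; ring
    rw [e2] at e
    nlinarith [pow_pos (show (0 : ℝ) < q by linarith) 5, e]
  have hm' : (n : ℝ) - 1 = 6 * (m : ℝ) := by rw [hm]; push_cast; ring
  have hnR : (n : ℝ) - 6 ≤ q + r := by exact_mod_cast hnZ
  have hm0 : (0 : ℝ) < m := by
    rcases Nat.eq_zero_or_pos m with e | e
    · exfalso
      subst e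
      have : q + s + 1 = 1 := by omega
      rcases hs with rfl | rfl <;> nlinarith
    · exact_mod_cast e
  have hn6 : (0 : ℝ) ≤ (n : ℝ) - 6 := by
    have : (1 : ℝ) ≤ m := by exact_mod_cast (by exact_mod_cast hm0 : 0 < m)
    nlinarith
  have t2 : ((n : ℝ) - 5 - 1) ^ 2 / ((m : ℝ) * (D : ℝ) ^ 2) ≤ 6 * (q + r) / (0.056 * (q : ℝ) ^ 5) := by
    rw [show (n : ℝ) - 5 - 1 = (n : ℝ) - 6 by ring,
      show ((n : ℝ) - 6) ^ 2 / ((m : ℝ) * (D : ℝ) ^ 2) = ((n : ℝ) - 6) ^ 2 / m / (D : ℝ) ^ 2 by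
        rw [div_div]]
    apply div_le_div₀ (by positivity) _ (by positivity) h5
    rw [div_le_iff₀ hm0]
    nlinarith
  have t1 : 4 * (5 : ℝ) / ((q : ℝ) ^ 2 - q + 1) ^ 2 ≤ 20 / (0.99 * (q : ℝ) ^ 2) ^ 2 := by
    norm_num only
    apply div_le_div_of_nonneg_left (by norm_num) (by positivity)
    apply pow_le_pow_left₀ (by positivity)
    nlinarith
  have hq3 : (0 : ℝ) < (q : ℝ) ^ 3 := by positivity
  calc _ ≤ (q : ℝ) ^ 3 * (4 * (5 : ℝ) / ((q : ℝ) ^ 2 - q + 1) ^ 2 +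
        ((n : ℝ) - 5 - 1) ^ 2 / ((m : ℝ) * (D : ℝ) ^ 2)) :=
        mul_le_mul_of_nonneg_right (by linarith) (by positivity)
    _ ≤ (q : ℝ) ^ 3 * (20 / (0.99 * (q : ℝ) ^ 2) ^ 2 + 6 * (q + r) / (0.056 * (q : ℝ) ^ 5)) :=
        mul_le_mul_of_nonneg_left (add_le_add t1 t2) hq3.le
    _ = 20 / (0.99 ^ 2 * (q : ℝ)) + 6 * (q + r) / (0.056 * (q : ℝ) ^ 2) := by
        field_simp
    _ ≤ 20 / (0.99 ^ 2 * 243) + 6 * (1.12 * (q : ℝ)) / (0.056 * (q : ℝ) ^ 2) := by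
        gcongr
        linarith
    _ = 20 / (0.99 ^ 2 * 243) + 120 / (q : ℝ) := by field_simp; ring
    _ ≤ 20 / (0.99 ^ 2 * 243) + 120 / 243 := by gcongr
    _ < 1 := by norm_num

/-- `q = 27`, the larger torus. -/
theorem plus27 {D : ℕ} (h13 : 13 ∣ D) (h19 : 19 ∣ D) (hD : 0 < D)
    (hmod : D % 37 = 6 ∨ D % 37 = 31 ∨ D % 37 = 7 ∨ D % 37 = 30) : 3952 ≤ D := by
  obtain ⟨k, rfl⟩ : 247 ∣ D := Nat.Coprime.mul_dvd_of_dvd_of_dvd (by norm_num) h13 h19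
  by_contra hlt
  have : k < 16 := by omega
  interval_cases k <;> omega

/-- `q = 27`, the smaller torus. -/
theorem minus27 {D : ℕ} (h13 : 13 ∣ D) (hG : D ∣ 27 ^ 3 * 26 * 19684) (hd : 703 ≤ D)
    (h37 : D % 37 = 0 ∨ D % 37 = 1 ∨ D % 37 = 36) (hlt : D < 2340)
    (h19 : D % 19 = 6 ∨ D % 19 = 13 ∨ D % 19 = 7 ∨ D % 19 = 12 ∨ D % 19 = 5 ∨ D % 19 = 14) :
    D = 962 ∨ D = 1924 := by
  obtain ⟨e, rfl⟩ := h13
  have key : ∀ i ∈ List.range 180, (27 ^ 3 * 26 * 19684) % (13 * i) = 0 → 703 ≤ 13 * i →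
      ((13 * i) % 37 = 0 ∨ (13 * i) % 37 = 1 ∨ (13 * i) % 37 = 36) →
      ((13 * i) % 19 = 6 ∨ (13 * i) % 19 = 13 ∨ (13 * i) % 19 = 7 ∨ (13 * i) % 19 = 12 ∨
        (13 * i) % 19 = 5 ∨ (13 * i) % 19 = 14) → 13 * i = 962 ∨ 13 * i = 1924 := by decide +kernel
  exact key e (List.mem_range.2 (by omega)) (Nat.mod_eq_zero_of_dvd hG) hd h37 h19

end H53.ReeSq
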