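import Cfsg.Agent.H52.ReeTori
import Cfsg.Agent.H53.ReeSq.Cent
import Cfsg.Agent.H53.ReeSq.Exc

/-!
The torus normaliser data, the Borel subgroup, and degree congruences.
-/

set_option autoImplicit false
set_option linter.unusedSectionVars false
set_option linter.style.haveILetI false

open Cfsg

namespace H53.ReeSq

open H52.Ree2 Cfsg.Lie
open H22.SC (InA Ssc)

universe u

section Generic

variable {G : Type u} [Group G] [Fintype G] {A B : Subgroup G} {e e' : ℕ}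

/-- The degree congruence modulo another disjoint subgroup. -/
theorem Exc.mod_cross (E : Exc A e) (E' : Exc B e') (hd : ∀ g : G, InA B g → ¬ InA A g)
    (s : Fin E.m) :
    (Nat.card B : ℤ) ∣ (H12.degree (E.mu s : G → ℂ) : ℤ) - E'.b (E.mu s) := by
  classical
  haveI := Fintype.ofFinite B
  obtain ⟨k, hk⟩ := H24.sum_subgroup_eq (H12.isCharacter_irr (E.mu s)) B
  rw [← Finset.add_sum_erase _ _ (Finset.mem_univ (1 : B)),
    Finset.sum_congr rfl (g := fun _ => (E'.b (E.mu s) : ℂ)) (fun x hx => by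
      rw [E'.val _ (fun u => E.mu_ne E' hd s u) x x.2
        (fun h => Finset.ne_of_mem_erase hx (Subtype.ext h))]),
    Finset.sum_const, Finset.card_erase_of_mem (Finset.mem_univ _), Finset.card_univ,
    ← Nat.card_eq_fintype_card, nsmul_eq_mul, OneMemClass.coe_one, H12.irr_apply_one (E.mu s),
    Nat.cast_sub Nat.card_pos, Nat.cast_one] at hk
  refine ⟨(k : ℤ) - E'.b (E.mu s), ?_⟩
  apply Int.cast_injective (α := ℂ)
  push_cast
  linear_combination hk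

theorem Exc.b_sq_le (E' : Exc B e') : ∑ χ, E'.b χ ^ 2 ≤ (e' : ℤ) + 1 := by
  have h := E'.norm
  have h2 : (0 : ℤ) ≤ ((E'.m : ℤ) - 1) * E'.a ^ 2 :=
    mul_nonneg (by have := E'.two_le; omega) (sq_nonneg _)
  nlinarith [sq_nonneg (E'.a - E'.eps)]

theorem Exc.one_le_b_sq (E : Exc A e) : 1 ≤ ∑ χ, E.b χ ^ 2 := by
  classical
  have h := Finset.single_le_sum (f := fun χ => E.b χ ^ 2) (fun χ _ => sq_nonneg _)
    (Finset.mem_univ (H12.oneIrr G))
  simpa only [E.b_one, one_pow] using h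

/-- If the first torus has at least six exceptional characters they vanish on the second. -/
theorem Exc.b_cross_eq_zero (E : Exc A e) (E' : Exc B 6) (hd : ∀ g : G, InA B g → ¬ InA A g)
    (hm : 6 ≤ E.m) (s : Fin E.m) : E'.b (E.mu s) = 0 := by
  have h1 := E.cross_norm E' hd s
  have h2 := E'.b_sq_le
  have h3 := E'.norm
  have h6 : (6 : ℤ) ≤ E.m := by exact_mod_cast hm
  by_contra h0
  have hb : 1 ≤ E'.b (E.mu s) ^ 2 := by
    have : 0 < E'.b (E.mu s) ^ 2 := by positivity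
    omega
  have h4 : (6 : ℤ) ≤ (E.m : ℤ) * E'.b (E.mu s) ^ 2 := by
    simpa using mul_le_mul h6 hb zero_le_one (by omega)
  simp only [Nat.cast_ofNat] at h2 h3
  have hsum : ∑ χ, E'.b χ ^ 2 = 7 := by omega
  rw [hsum] at h3
  have hm' : (2 : ℤ) ≤ E'.m := by exact_mod_cast E'.two_le
  have n1 := sq_nonneg (E'.a - E'.eps)
  have n2 : E'.a ^ 2 ≤ ((E'.m : ℤ) - 1) * E'.a ^ 2 :=
    le_mul_of_one_le_left (sq_nonneg _) (by omega)
  have n3 := sq_nonneg E'.a
  have e1 : (E'.a - E'.eps) ^ 2 = 0 := by omega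
  have e2 : E'.a ^ 2 = 0 := by omega
  rw [sq_eq_zero_iff] at e1 e2
  rcases E'.eps_cases with h | h <;> omega

/-- An element whose centraliser in a finite normalised subgroup is trivial twists it onto itself. -/
theorem isConj_mul_of_free {a : G} {U : Subgroup G} (hn : ∀ w ∈ U, a⁻¹ * w * a ∈ U)
    (hfree : ∀ w ∈ U, w * a = a * w → w = 1) {u : G} (hu : u ∈ U) : IsConj a (a * u) := by
  let φ : U → U := fun w => ⟨a⁻¹ * w * a * (w : G)⁻¹, mul_mem (hn w w.2) (inv_mem w.2)⟩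
  have hinj : Function.Injective φ := by
    intro w w' h
    have h' : a⁻¹ * w * a * (w : G)⁻¹ = a⁻¹ * w' * a * (w' : G)⁻¹ := congrArg Subtype.val h
    have h1 : (w' : G)⁻¹ * w = 1 := by
      refine hfree _ (mul_mem (inv_mem w'.2) w.2) ?_
      calc (w' : G)⁻¹ * w * a = (w' : G)⁻¹ * a * (a⁻¹ * w * a * (w : G)⁻¹) * w := by group
        _ = a * ((w' : G)⁻¹ * w) := by rw [h']; group
    exact Subtype.ext (inv_mul_eq_one.1 h1).symm
  obtain ⟨w, hw⟩ := (Finite.injective_iff_surjective.1 hinj) ⟨u, hu⟩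
  have hw' : a⁻¹ * w * a * (w : G)⁻¹ = u := congrArg Subtype.val hw
  exact isConj_iff.2 ⟨w, by rw [← hw']; group⟩

end Generic

variable {K : Type*} [Field K] [Fintype K] {m : ℕ} (hK : Fintype.card K = 3 ^ (2 * m + 1))

/-- The unipotent radical of the Borel subgroup inside the group. -/
abbrev UG (K : Type*) [Field K] (m : ℕ) : Subgroup ↥(RG K m) := (RU K m).subgroupOf (RG K m)

include hK

theorem UG_le : UG K m ≤ RBsub K m := fun x hx =>
  Subgroup.mem_subgroupOf.2 (U_le_B hK (Subgroup.mem_subgroupOf.1 hx))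

theorem HG_le : HG K m ≤ RBsub K m := fun x hx =>
  Subgroup.mem_subgroupOf.2 (H_le_B' hK (Subgroup.mem_subgroupOf.1 hx))

theorem B_conj_UG {b w : ↥(RG K m)} (hb : b ∈ RBsub K m) (hw : w ∈ UG K m) :
    b * w * b⁻¹ ∈ UG K m := by
  rw [Subgroup.mem_subgroupOf, Subgroup.coe_mul, Subgroup.coe_mul, Subgroup.coe_inv]
  exact B_conj_U hK (Subgroup.mem_subgroupOf.1 hb) (Subgroup.mem_subgroupOf.1 hw)

theorem B_le_normalizer : RBsub K m ≤ Subgroup.normalizer (UG K m : Set ↥(RG K m)) := by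
  intro b hb
  rw [Subgroup.mem_normalizer_iff]
  refine fun w => ⟨fun hw => B_conj_UG hK hb hw, fun hw => ?_⟩
  have := B_conj_UG hK (inv_mem hb) hw
  rwa [show b⁻¹ * (b * w * b⁻¹) * b⁻¹⁻¹ = w by group] at this

theorem commutator_mem_UG {a b : ↥(RG K m)} (ha : a ∈ RBsub K m) (hb : b ∈ RBsub K m) :
    a * b * a⁻¹ * b⁻¹ ∈ UG K m := by
  obtain ⟨t, u, v, p, rfl⟩ := mem_B_exists hK ha
  obtain ⟨t', u', v', p', rfl⟩ := mem_B_exists hK hb
  have hu : ∀ t u v, uG hK t u v ∈ UG K m := fun t u v =>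
    Subgroup.mem_subgroupOf.2 (uW_mem_U hK t u v)
  have hh : ∀ p, hG hK p ∈ RBsub K m := fun p =>
    HG_le hK (Subgroup.mem_subgroupOf.2 (hA_mem hK p))
  set w := uG hK t u v
  set w' := uG hK t' u' v'
  set h := hG hK p
  set h' := hG hK p'
  have hc : h * h' = h' * h := by simp only [h, h', hG_mul, mul_comm p p']
  have e : w * h * (w' * h') * (w * h)⁻¹ * (w' * h')⁻¹ =
      w * (h * w' * h⁻¹) * (h' * w⁻¹ * h'⁻¹) * w'⁻¹ := by
    calc w * h * (w' * h') * (w * h)⁻¹ * (w' * h')⁻¹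
        = w * (h * w') * (h' * h⁻¹) * w⁻¹ * h'⁻¹ * w'⁻¹ := by group
      _ = w * (h * w') * (h⁻¹ * h') * w⁻¹ * h'⁻¹ * w'⁻¹ := by
          rw [(Commute.inv_left (show Commute h h' from hc)).eq]
      _ = _ := by group
  rw [e]
  exact mul_mem (mul_mem (mul_mem (hu _ _ _) (B_conj_UG hK (hh _) (hu _ _ _)))
    (B_conj_UG hK (hh _) (inv_mem (hu _ _ _)))) (inv_mem (hu _ _ _))

theorem HG_UG_disjoint : Disjoint (UG K m) (HG K m) := by
  rw [Subgroup.disjoint_def]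
  intro x hx hx'
  have h : (x : GL chevG2.Idx K) ∈ RU K m ⊓ RH K m :=
    Subgroup.mem_inf.2 ⟨Subgroup.mem_subgroupOf.1 hx, Subgroup.mem_subgroupOf.1 hx'⟩
  rw [U_inf_H hK, Subgroup.mem_bot] at h
  exact Subtype.ext h

/-- An element of `HG`, not an involution, is conjugate to each of its translates by `U`. -/
theorem isConj_twist {a u : ↥(RG K m)} (ha : a ∈ HG K m) (ha2 : a * a ≠ 1) (hu : u ∈ UG K m) :
    IsConj a (a * u) := by
  letI : Fintype ↥(RG K m) := Fintype.ofFinite _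
  refine isConj_mul_of_free (U := UG K m) (fun w hw => ?_) (fun w hw hc => ?_) hu
  · have := B_conj_UG hK (inv_mem (HG_le hK ha)) hw
    rwa [inv_inv] at this
  · have h : w ∈ HG K m := by
      rw [← centralizer_HG hK ha ha2]
      exact Subgroup.mem_centralizer_singleton_iff.2 hc
    exact Subgroup.disjoint_def.1 (HG_UG_disjoint hK) hw h

/-- The odd part of `HG`. -/
theorem exists_HG_odd : ∃ A₀ : Subgroup ↥(RG K m), A₀ ≤ HG K m ∧ Nat.card ↥A₀ = qh m ∧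
    ∀ a ∈ A₀, a ≠ 1 → a * a ≠ 1 := by
  obtain ⟨-, hq2, -, hoh, -⟩ := q_arith m
  obtain ⟨hcyc, hc⟩ := HG_cyclic hK
  obtain ⟨g, hg⟩ := hcyc.exists_ofOrder_eq_natCard
  rw [hc, hq2, ← Subgroup.orderOf_coe] at hg
  refine ⟨Subgroup.zpowers ((g : ↥(RG K m)) ^ 2), ?_, ?_, fun a ha ha1 => ?_⟩
  · rw [Subgroup.zpowers_le]; exact pow_mem g.2 2
  · rw [Nat.card_zpowers, orderOf_pow, hg, Nat.gcd_mul_right_left, Nat.mul_div_cancel_left _ two_pos]
  · refine HG_sq_ne_of_odd hK ha1 hoh ?_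
    obtain ⟨k, rfl⟩ := ha
    rw [← zpow_natCast, ← zpow_mul, mul_comm k, zpow_mul, zpow_natCast, ← pow_mul, ← hg,
      pow_orderOf_eq_one, one_zpow]

variable [Fintype ↥(RG K m)]

theorem dvd_degree_qh (hπ : classInner (indFun (RBsub K m) (1 : ↥(RBsub K m) → ℂ))
      (indFun (RBsub K m) (1 : ↥(RBsub K m) → ℂ)) = 2)
    {A : Subgroup ↥(RG K m)} {e : ℕ} (E : Exc A e) (hcard : Nat.card A ∣ qN m) (hm3 : 3 ≤ E.m)
    (s : Fin E.m) : qh m ∣ H12.degree (E.mu s : ↥(RG K m) → ℂ) := by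
  classical
  haveI := Fintype.ofFinite ↥(UG K m)
  have hAB : ∀ g ∈ RBsub K m, ¬ InA A g := by
    rintro g hg ⟨hg1, c, hc⟩
    apply hg1
    rw [← orderOf_eq_one_iff]
    refine Nat.eq_one_of_dvd_coprimes (qN_coprime m) ?_ ?_
    · have := (Subgroup.orderOf_dvd_natCard _ hc).trans hcard
      rwa [show c * g * c⁻¹ = c⁻¹⁻¹ * g * c⁻¹ by group, orderOf_conj_inv hK] at this
    · refine (Subgroup.orderOf_dvd_natCard _ hg).trans ?_
      rw [card_RB hK]
      exact dvd_mul_right _ _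
  have h0 := E.cusp (UG K m) (RBsub K m) (UG_le hK) (B_le_normalizer hK)
    (fun a ha b hb => commutator_mem_UG hK ha hb) hAB hπ hm3 s
  obtain ⟨A₀, hle, hc, hsq⟩ := exists_HG_odd hK
  rw [← hc]
  exact dvd_degree_of_sum_zero (E.mu s) (UG K m) A₀
    ((hle.trans (HG_le hK)).trans (B_le_normalizer hK))
    ((HG_UG_disjoint hK).mono_right hle)
    (fun a ha ha1 u hu => isConj_twist hK (hle ha) (hsq a ha ha1) hu) h0

/-- The two Singer tori with their exceptional characters. -/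
theorem exists_torus_exc (hm : 1 ≤ m) {x : ↥(RG K m)} (hx : x ^ qN m = 1) (hx1 : x ≠ 1) :
    ∃ (A A' : Subgroup ↥(RG K m)) (E : Exc A 6) (_ : Exc A' 6),
      H22.SC.Ssc A ∧ (∃ c, c⁻¹ * x * c ∈ A) ∧ (∀ g, InA A' g → ¬ InA A g) ∧
      ((Nat.card A = 3 ^ (2 * m + 1) + rr m + 1 ∧ Nat.card A' = 3 ^ (2 * m + 1) - rr m + 1) ∨
        (Nat.card A = 3 ^ (2 * m + 1) - rr m + 1 ∧ Nat.card A' = 3 ^ (2 * m + 1) + rr m + 1)) := by
  classical
  obtain ⟨g₁, g₂, a1, b1, a2, b2, c1, c2, n1, n2, hcov⟩ := exists_tori hK hm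
  obtain ⟨hr2, hrq, hq27⟩ := rr_facts m hm
  have key : ∀ g₀ : ↥(RG K m), g₀ ^ qN m = 1 → g₀ ≠ 1 →
      Nat.card ↥(Subgroup.normalizer (Subgroup.centralizer {g₀} : Set ↥(RG K m))) =
        6 * Nat.card ↥(Subgroup.centralizer {g₀}) → 7 < Nat.card ↥(Subgroup.centralizer {g₀}) →
      H22.SC.Ssc (Subgroup.centralizer {g₀}) ∧ Nonempty (Exc (Subgroup.centralizer {g₀}) 6) := by
    intro g₀ a b hn h7
    have hA : H22.SC.Ssc (Subgroup.centralizer {g₀}) := fun y hy hy1 =>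
      (centralizer_qN hK hm a b).2.2 y hy hy1
    refine ⟨hA, exists_exc hA (by norm_num) ?_ h7⟩
    have h := Subgroup.card_mul_index
      ((Subgroup.centralizer {g₀}).subgroupOf (Subgroup.normalizer (Subgroup.centralizer {g₀} : Set ↥(RG K m))))
    rw [Nat.card_congr (Subgroup.subgroupOfEquivOfLe Subgroup.le_normalizer).toEquiv, hn, mul_comm 6] at h
    exact Nat.eq_of_mul_eq_mul_left Nat.card_pos h
  have hr1 : 9 ≤ rr m := by
    show 3 ^ 2 ≤ 3 ^ (m + 1)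
    exact Nat.pow_le_pow_right (by norm_num) (by omega)
  have h1 : 7 < Nat.card ↥(Subgroup.centralizer {g₁}) := by
    rw [c1]
    have hr : rr m * rr m = 3 * 3 ^ (2 * m + 1) := by rw [← sq]; exact hr2
    have : 9 * rr m ≤ 3 * 3 ^ (2 * m + 1) := hr ▸ Nat.mul_le_mul_right _ hr1
    omega
  have h2 : 7 < Nat.card ↥(Subgroup.centralizer {g₂}) := by rw [c2]; omega
  obtain ⟨hA₁, ⟨E₁⟩⟩ := key g₁ a1 b1 (by rw [n1, c1]) h1
  obtain ⟨hA₂, ⟨E₂⟩⟩ := key g₂ a2 b2 (by rw [n2, c2]) h2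
  have hd : ∀ g, InA (Subgroup.centralizer {g₁}) g → ¬ InA (Subgroup.centralizer {g₂}) g := by
    rintro g ⟨hg1, c, hc⟩ ⟨-, c', hc'⟩
    apply hg1
    rw [← orderOf_eq_one_iff]
    have e : ∀ d, orderOf (d * g * d⁻¹) = orderOf g := fun d => by
      rw [show d * g * d⁻¹ = d⁻¹⁻¹ * g * d⁻¹ by group, orderOf_conj_inv hK]
    refine Nat.eq_one_of_dvd_coprimes (pm_coprime hK hm) ?_ ?_
    · rw [← c1, ← e c]; exact Subgroup.orderOf_dvd_natCard _ hc
    · rw [← c2, ← e c']; exact Subgroup.orderOf_dvd_natCard _ hc'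
  rcases hcov x hx hx1 with ⟨-, h⟩ | ⟨-, h⟩
  · exact ⟨_, _, E₁, E₂, hA₁, h, fun g hg hg' => hd g hg' hg, Or.inr ⟨c1, c2⟩⟩
  · exact ⟨_, _, E₂, E₁, hA₂, h, fun g hg hg' => hd g hg hg', Or.inl ⟨c2, c1⟩⟩

end H53.ReeSq
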