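import Cfsg.Agent.H12.Integral
import Cfsg.Agent.H53.ReeSq.Torus
import Cfsg.Agent.H53.ReeSq.Degree
import Cfsg.Agent.H53.ReeSq.Numeric

/-!
Elements of orders two and three as products of two conjugates of a Singer element.
-/

set_option autoImplicit false
set_option linter.unusedSectionVars false
set_option linter.style.haveILetI false

open Cfsg

namespace H53.ReeSq

open H52.Ree2 Cfsg.Lie
open H22.SC (InA Ssc)
open scoped ComplexConjugate

variable {K : Type*} [Field K] [Fintype K] {m : ℕ} (hK : Fintype.card K = 3 ^ (2 * m + 1))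
variable [Fintype ↥(RG K m)]
include hK

theorem kill962 (hm1 : m = 1) {A : Subgroup ↥(RG K m)} (E : Exc A 6) (hcard : Nat.card A = 19)
    (s : Fin E.m) (hD : H12.degree (E.mu s : ↥(RG K m) → ℂ) = 962) : False := by
  classical
  subst hm1
  have hm : 1 ≤ 1 := le_rfl
  obtain ⟨y, hy, hy1⟩ := AT_exists_ne hK hm
  have hA7 : Nat.card ↥(AT hK) = 7 := by rw [(AT_cyclic hK).2]; rfl
  have hC : Subgroup.centralizer {y} = L0 hK := centralizer_AT hK hm hy hy1
  haveI := Fintype.ofFinite ↥(AT hK)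
  haveI := Fintype.ofFinite ↥(L0 hK)
  -- all nontrivial elements of `AT` are conjugate
  set N := Subgroup.normalizer (AT hK : Set ↥(RG K 1))
  haveI := Fintype.ofFinite ↥N
  let f : ↥N → ↥(AT hK) := fun n => ⟨(n : ↥(RG K 1)) * y * (n : ↥(RG K 1))⁻¹,
    (Subgroup.mem_normalizer_iff.1 n.2 y).1 hy⟩
  set S := Finset.univ.image f with hS
  have hfib : ∀ z ∈ S, (Finset.univ.filter fun n => f n = z).card ≤ 28 := by
    intro z hz
    obtain ⟨n₀, -, rfl⟩ := Finset.mem_image.1 hz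
    have h28 : (Finset.univ : Finset ↥(L0 hK)).card = 28 := by
      rw [Finset.card_univ, ← Nat.card_eq_fintype_card, L0_card hK]; rfl
    rw [← h28]
    refine Finset.card_le_card_of_injOn (fun n =>
      if h : (n₀ : ↥(RG K 1))⁻¹ * n ∈ L0 hK then ⟨_, h⟩ else 1) (fun _ _ => Finset.mem_univ _) ?_
    intro n hn n' hn' e
    have key : ∀ k : ↥N, f k = f n₀ → (n₀ : ↥(RG K 1))⁻¹ * k ∈ L0 hK := by
      intro k hk
      have hk' : (k : ↥(RG K 1)) * y * (k : ↥(RG K 1))⁻¹ =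
          (n₀ : ↥(RG K 1)) * y * (n₀ : ↥(RG K 1))⁻¹ := congrArg Subtype.val hk
      rw [← hC, Subgroup.mem_centralizer_singleton_iff]
      calc (n₀ : ↥(RG K 1))⁻¹ * k * y = (n₀ : ↥(RG K 1))⁻¹ *
            ((k : ↥(RG K 1)) * y * (k : ↥(RG K 1))⁻¹) * k := by group
        _ = _ := by rw [hk']; group
    simp only [Finset.coe_filter, Finset.mem_univ, true_and, Set.mem_setOf_eq] at hn hn'
    simp only [dif_pos (key n hn), dif_pos (key n' hn')] at e
    exact Subtype.ext (mul_left_cancel (congrArg Subtype.val e))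
  have hSne : S ⊆ (Finset.univ : Finset ↥(AT hK)).erase 1 := by
    intro z hz
    obtain ⟨n, -, rfl⟩ := Finset.mem_image.1 hz
    exact Finset.mem_erase.2 ⟨fun e => hy1 (conj_eq_one_iff.1 (congrArg Subtype.val e)),
      Finset.mem_univ _⟩
  have hScard : 6 ≤ S.card := by
    have h1 := Finset.card_le_mul_card_image (Finset.univ : Finset ↥N) 28 hfib
    rw [Finset.card_univ, ← Nat.card_eq_fintype_card, card_normalizer_AT hK hm] at h1
    have : 24 * qp 1 = 168 := rfl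
    rw [← hS] at h1
    omega
  have hSall : S = (Finset.univ : Finset ↥(AT hK)).erase 1 := Finset.eq_of_subset_of_card_le hSne (by
    rw [Finset.card_erase_of_mem (Finset.mem_univ _), Finset.card_univ, ← Nat.card_eq_fintype_card, hA7]
    exact hScard)
  -- the common value
  set β := (E.mu s : ↥(RG K 1) → ℂ) y with hβ
  obtain ⟨k, hk⟩ := H24.sum_subgroup_eq (H12.isCharacter_irr (E.mu s)) (AT hK)
  rw [← Finset.add_sum_erase _ _ (Finset.mem_univ (1 : ↥(AT hK))),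
    Finset.sum_congr rfl (g := fun _ => β) (fun z hz => by
      rw [← hSall] at hz
      obtain ⟨n, -, rfl⟩ := Finset.mem_image.1 hz
      exact (H12.IsClassFunction.of_isConj (H12.irr_isClassFunction (E.mu s))
        (isConj_iff.2 ⟨n, rfl⟩)).symm),
    Finset.sum_const, Finset.card_erase_of_mem (Finset.mem_univ _), Finset.card_univ,
    ← Nat.card_eq_fintype_card, hA7, nsmul_eq_mul, OneMemClass.coe_one,
    H12.irr_apply_one (E.mu s), hD] at hk
  have hβq : β = (((7 * (k : ℚ) - 962) / 6 : ℚ) : ℂ) := by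
    push_cast at hk ⊢
    linear_combination hk / 6
  obtain ⟨z, hz⟩ := H12.exists_int_of_isIntegral_rat (q := (7 * (k : ℚ) - 962) / 6) (by
    rw [← hβq, hβ]; exact H12.IsCharacter.isIntegral (H12.isCharacter_irr (E.mu s)) y)
  have hβz : β = (z : ℂ) := by rw [hβq, ← hz]; norm_cast
  have h7 : (7 : ℤ) ∣ 962 + 6 * z := by
    refine ⟨k, ?_⟩
    apply Int.cast_injective (α := ℚ)
    push_cast
    rw [hz]; ring
  -- `y` is not exceptional
  have hyA : ¬ InA A y := by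
    rintro ⟨-, c, hc⟩
    apply hy1
    rw [← orderOf_eq_one_iff]
    refine Nat.eq_one_of_dvd_coprimes (show Nat.Coprime 7 19 by norm_num) ?_ ?_
    · rw [← hA7]; exact Subgroup.orderOf_dvd_natCard _ hy
    · rw [← hcard]
      have := Subgroup.orderOf_dvd_natCard _ hc
      rwa [show c * y * c⁻¹ = c⁻¹⁻¹ * y * c⁻¹ by group, orderOf_conj_inv hK] at this
  have hm3 : E.m = 3 := by have := E.card_eq; omega
  have hcy : (Nat.card ↥(Subgroup.centralizer ({y} : Set ↥(RG K 1))) : ℝ) = 28 := by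
    rw [hC, L0_card hK]; norm_num [qp]
  set M := Finset.univ.image E.mu with hM
  have hcol := sum_norm_sq y
  rw [hcy, E.sum_split (fun χ => ‖(χ : ↥(RG K 1) → ℂ) y‖ ^ 2),
    Finset.sum_congr rfl (s₁ := (Finset.univ : Finset (Fin E.m))) (g := fun _ => (z : ℝ) ^ 2)
      (fun t _ => by rw [E.const y hyA t s, ← hβ, hβz, Complex.norm_intCast, sq_abs]),
    Finset.sum_const, Finset.card_univ, Fintype.card_fin, nsmul_eq_mul, show ((E.m : ℕ) : ℝ) = 3 by rw [hm3]; norm_num] at hcol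
  have hone : H12.oneIrr ↥(RG K 1) ∈ Mᶜ := by
    simp only [hM, Finset.mem_compl, Finset.mem_image, Finset.mem_univ, true_and, not_exists]
    exact E.one_ne
  rw [← Finset.add_sum_erase _ _ hone, H12.oneIrr_apply, norm_one, one_pow] at hcol
  set R := ∑ χ ∈ Mᶜ.erase (H12.oneIrr ↥(RG K 1)), ‖(χ : ↥(RG K 1) → ℂ) y‖ ^ 2 with hR
  have hR0 : 0 ≤ R := by positivity
  have hz9 : z ^ 2 ≤ 9 := by
    have : (z : ℝ) ^ 2 ≤ 9 := by push_cast at hcol; linarith
    exact_mod_cast this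
  have hz3 : z = 3 := by
    have : -3 ≤ z ∧ z ≤ 3 := ⟨by nlinarith, by nlinarith⟩
    omega
  subst hz3
  have hR1 : R = 0 := by push_cast at hcol; linarith
  -- orthogonality with the column of the identity
  have ho := H12.column_orthogonality y (1 : ↥(RG K 1))
  rw [if_neg (fun h => hy1 (isConj_one_left.1 h)),
    E.sum_split (fun χ => (χ : ↥(RG K 1) → ℂ) y * conj ((χ : ↥(RG K 1) → ℂ) 1)),
    Finset.sum_congr rfl (s₁ := (Finset.univ : Finset (Fin E.m))) (g := fun _ => (3 : ℂ) * 962)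
      (fun t _ => by
        rw [E.const y hyA t s, ← hβ, hβz, H12.irr_apply_one (E.mu t), E.degree_eq t s, hD,
          Complex.conj_natCast]
        norm_num),
    Finset.sum_const, Finset.card_univ, Fintype.card_fin, nsmul_eq_mul, show ((E.m : ℕ) : ℂ) = 3 by rw [hm3]; norm_num,
    ← Finset.add_sum_erase _ _ hone, H12.oneIrr_apply, H12.oneIrr_apply,
    Finset.sum_eq_zero (fun χ hχ => by
      have h0 : ‖(χ : ↥(RG K 1) → ℂ) y‖ ^ 2 = 0 :=
        (Finset.sum_eq_zero_iff_of_nonneg (fun i _ => sq_nonneg _)).1 (hR.symm.trans hR1) χ hχ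
      rw [norm_eq_zero.1 (pow_eq_zero_iff two_ne_zero |>.1 h0), zero_mul])] at ho
  norm_num at ho

theorem norm_cases {A : Subgroup ↥(RG K m)} (E : Exc A 6) :
    E.eps ^ 2 = 1 ∧ (E.a - E.eps) ^ 2 + ((E.m : ℤ) - 1) * E.a ^ 2 ≤ 6 ∧
      ∑ χ, E.b χ ^ 2 = 7 - ((E.a - E.eps) ^ 2 + ((E.m : ℤ) - 1) * E.a ^ 2) := by
  have h1 := E.norm
  have h2 := E.one_le_b_sq
  simp only [Nat.cast_ofNat] at h1
  exact ⟨by rcases E.eps_cases with h | h <;> rw [h] <;> rfl, by omega, by omega⟩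

omit hK in
theorem a_cases6 {a ε : ℤ} (he : ε = 1 ∨ ε = -1) (h : (a - ε) ^ 2 + 5 * a ^ 2 ≤ 6) :
    a = 0 ∨ a = ε := by
  have : -1 ≤ a ∧ a ≤ 1 := ⟨by nlinarith [sq_nonneg (a - ε)], by nlinarith [sq_nonneg (a - ε)]⟩
  obtain ⟨u, v⟩ := this
  rcases he with rfl | rfl <;> interval_cases a <;> omega

omit hK in
theorem a_cases3 {a ε : ℤ} (he : ε = 1 ∨ ε = -1) (h : (a - ε) ^ 2 + 2 * a ^ 2 ≤ 6) :
    a = 0 ∨ a = ε ∨ a = -ε := by
  have : -1 ≤ a ∧ a ≤ 1 := ⟨by nlinarith [sq_nonneg (a - ε)], by nlinarith [sq_nonneg (a - ε)]⟩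
  rcases he with rfl | rfl <;> omega

omit hK in
theorem b_cases3 {b S : ℤ} (h : 3 * b ^ 2 + 1 ≤ S) (hS : S ≤ 7) : b = -1 ∨ b = 0 ∨ b = 1 := by
  have : -1 ≤ b ∧ b ≤ 1 := ⟨by nlinarith, by nlinarith⟩
  omega

/-- The case `q = 27`. -/
theorem prodTwo_small (hπ : classInner (indFun (RBsub K m) (1 : ↥(RBsub K m) → ℂ))
      (indFun (RBsub K m) (1 : ↥(RBsub K m) → ℂ)) = 2) (hm1 : m = 1)
    {A A' : Subgroup ↥(RG K m)} (E : Exc A 6) (E' : Exc A' 6) (hA : Ssc A)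
    (hd : ∀ g, InA A' g → ¬ InA A g) (hAd : Nat.card A ∣ qN m)
    (hcards : (Nat.card A = 37 ∧ Nat.card A' = 19) ∨ (Nat.card A = 19 ∧ Nat.card A' = 37))
    {x g : ↥(RG K m)} (hx : x ∈ A) (hx1 : x ≠ 1) (hg1 : g ≠ 1) (hgA : ¬ InA A g)
    (hcg : Nat.card ↥(Subgroup.centralizer ({g} : Set ↥(RG K m))) ≤ 19683) : ProdTwo x g := by
  classical
  have hm : 1 ≤ m := hm1.ge
  have hN : qN m = 703 := by rw [hm1]; norm_num [qN]
  have hG' : Nat.card ↥(RG K m) = 27 ^ 3 * 26 * 19684 := by rw [card_ree hK, hm1]; norm_num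
  let s₀ : Fin E.m := ⟨0, E.zero_lt_m⟩
  set D := H12.degree (E.mu s₀ : ↥(RG K m) → ℂ) with hDdef
  have hDs : ∀ s, D ≤ H12.degree (E.mu s : ↥(RG K m) → ℂ) := fun s => (E.degree_eq s₀ s).le
  have hd' : ∀ χ : IrrCharacter ↥(RG K m), χ ≠ H12.oneIrr ↥(RG K m) →
      703 ≤ H12.degree (χ : ↥(RG K m) → ℂ) := fun χ hχ => hN ▸ degree_ge hK hm χ hχ
  have hDqN : 703 ≤ D := hd' _ (E.one_ne s₀)
  obtain ⟨heps, hnorm, hbsum⟩ := norm_cases hK E
  have hcA := E.card_eq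
  have hmod := E.deg_mod hA s₀
  rw [← hDdef] at hmod
  have hcgR : (Nat.card ↥(Subgroup.centralizer ({g} : Set ↥(RG K m))) : ℝ) - 1 ≤ 19682 := by
    have : (Nat.card ↥(Subgroup.centralizer ({g} : Set ↥(RG K m))) : ℝ) ≤ 19683 := by
      exact_mod_cast hcg
    linarith
  have fin : ∀ (P : ℕ) (D₀ : ℕ) (n k : ℕ), Nat.card A = n → E.m = k → P ≤ 8 →
      ∑ χ, E.b χ ^ 2 = (P : ℤ) + 1 → 0 < D₀ → D₀ ≤ D →
      (19682 : ℝ) * (4 * (P : ℝ) / (703 : ℝ) ^ 2 +
        ((n : ℝ) - P - 1) ^ 2 / ((k : ℝ) * (D₀ : ℝ) ^ 2)) < 1 → ProdTwo x g := by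
    intro P D₀ n k hn hk hP8 hP h0 hle hlt
    refine E.prodTwo hA hx hx1 hg1 hgA (d := 703) (D := D₀) (by norm_num) h0 hd'
      (fun s => hle.trans (hDs s)) hP hP8 ?_
    rw [hn, hk, show ((703 : ℕ) : ℝ) = 703 by norm_num]
    exact lt_of_le_of_lt (mul_le_mul_of_nonneg_right hcgR (by positivity)) hlt
  have hqh : qh m = 13 := by rw [hm1]; rfl
  have h13 : 13 ∣ D := by
    rw [← hqh]
    exact dvd_degree_qh hK hπ E hAd (by rcases hcards with ⟨h1, -⟩ | ⟨h1, -⟩ <;> omega) s₀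
  rcases hcards with ⟨h1, h2⟩ | ⟨h1, h2⟩
  · -- order 37
    have hm6 : E.m = 6 := by omega
    have h19 : 19 ∣ D := by
      have := E.dvd_of_b_zero E' hd s₀ (E.b_cross_eq_zero E' hd (by omega) s₀)
      rwa [h2] at this
    rw [h1] at hmod
    rw [hm6] at hnorm hbsum
    push_cast at hnorm hbsum hmod
    norm_num only at hnorm hbsum
    have ha := a_cases6 E.eps_cases hnorm
    have hD3952 : 3952 ≤ D := by
      refine plus27 h13 h19 (by omega) ?_
      rcases E.eps_cases with e | e <;> rcases ha with a | a <;> rw [a, e] at hmod <;> omega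
    rcases ha with a | a
    · refine fin 5 3952 37 6 h1 hm6 (by norm_num) ?_ (by norm_num) hD3952 (by norm_num)
      rw [hbsum, a]; ring_nf; rw [heps]; norm_num
    · refine fin 1 3952 37 6 h1 hm6 (by norm_num) ?_ (by norm_num) hD3952 (by norm_num)
      rw [hbsum, a]; ring_nf; rw [heps]; norm_num
  · -- order 19
    have hm3 : E.m = 3 := by omega
    rw [h1] at hmod
    rw [hm3] at hnorm hbsum
    push_cast at hnorm hbsum hmod
    norm_num only at hnorm hbsum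
    have h37 : D % 37 = 0 ∨ D % 37 = 1 ∨ D % 37 = 36 := by
      have hmc := E.mod_cross E' hd s₀
      rw [h2, ← hDdef] at hmc
      push_cast at hmc
      have hc := E.cross_norm E' hd s₀
      rw [hm3] at hc
      push_cast at hc
      rcases b_cases3 hc (by simpa using E'.b_sq_le) with e | e | e <;> rw [e] at hmc <;> omega
    have hG : D ∣ 27 ^ 3 * 26 * 19684 := by
      have h := H24.charDegree_dvd_card (E.mu s₀)
      rwa [H24.charDegree_eq_degree, ← hDdef, hG'] at h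
    have ha := a_cases3 E.eps_cases hnorm
    have hres : D % 19 = 6 ∨ D % 19 = 13 ∨ D % 19 = 7 ∨ D % 19 = 12 ∨ D % 19 = 5 ∨ D % 19 = 14 := by
      rcases E.eps_cases with e | e <;> rcases ha with a | a | a <;> rw [a, e] at hmod <;> omega
    have hsmall : D < 2340 → D = 962 ∨ D = 1924 := fun h => minus27 h13 hG hDqN h37 h hres
    rcases ha with a | a | a <;> rw [a] at hmod hbsum
    · refine fin 5 2340 19 3 h1 hm3 (by norm_num) ?_ (by norm_num) ?_ (by norm_num)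
      · rw [hbsum]; ring_nf; rw [heps]; norm_num
      · by_contra hlt
        rcases hsmall (by omega) with e | e <;> rcases E.eps_cases with e' | e' <;>
          rw [e, e'] at hmod <;> omega
    · refine fin 4 1884 19 3 h1 hm3 (by norm_num) ?_ (by norm_num) ?_ (by norm_num)
      · rw [hbsum]; ring_nf; rw [heps]; norm_num
      · by_contra hlt
        rcases hsmall (by omega) with e | e
        · exact kill962 hK hm1 E h1 s₀ e
        · omega
    · refine fin 0 1459 19 3 h1 hm3 (by norm_num) ?_ (by norm_num) ?_ (by norm_num)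
      · rw [hbsum]; ring_nf; rw [heps]; norm_num
      · by_contra hlt
        rcases hsmall (by omega) with e | e <;> rcases E.eps_cases with e' | e' <;>
          rw [e, e'] at hmod <;> omega

/-- The case `q ≥ 243`. -/
theorem prodTwo_large (hπ : classInner (indFun (RBsub K m) (1 : ↥(RBsub K m) → ℂ))
      (indFun (RBsub K m) (1 : ↥(RBsub K m) → ℂ)) = 2) (hm2 : 2 ≤ m)
    {A A' : Subgroup ↥(RG K m)} (E : Exc A 6) (E' : Exc A' 6) (hA : Ssc A)
    (hd : ∀ g, InA A' g → ¬ InA A g) (hAd : Nat.card A ∣ qN m) (hAd' : Nat.card A' ∣ qN m)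
    {s : ℤ} (hs : s = (rr m : ℤ) ∨ s = -(rr m : ℤ))
    (hnA : (Nat.card A : ℤ) = ((3 ^ (2 * m + 1) : ℕ) : ℤ) + s + 1)
    (hnA' : (Nat.card A' : ℤ) = ((3 ^ (2 * m + 1) : ℕ) : ℤ) - s + 1)
    {x g : ↥(RG K m)} (hx : x ∈ A) (hx1 : x ≠ 1) (hg1 : g ≠ 1) (hgA : ¬ InA A g)
    (hcg : Nat.card ↥(Subgroup.centralizer ({g} : Set ↥(RG K m))) ≤ (3 ^ (2 * m + 1)) ^ 3) :
    ProdTwo x g := by
  classical
  have hm : 1 ≤ m := le_trans (by norm_num) hm2
  obtain ⟨hr2, hrq, hq27⟩ := rr_facts m hm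
  obtain ⟨-, hq2, -⟩ := q_arith m
  obtain ⟨hN1, -⟩ := qN_eq m
  have hq243 : 243 ≤ 3 ^ (2 * m + 1) :=
    le_trans (by norm_num) (Nat.pow_le_pow_right (by norm_num) (show 5 ≤ 2 * m + 1 by omega))
  have hr27 : 27 ≤ rr m :=
    le_trans (by norm_num) (Nat.pow_le_pow_right (by norm_num) (show 3 ≤ m + 1 by omega))
  have h9r : 9 * rr m ≤ 3 ^ (2 * m + 1) := by
    have h := Nat.mul_le_mul_right (rr m) hr27
    rw [← sq, hr2] at h
    omega
  let s₀ : Fin E.m := ⟨0, E.zero_lt_m⟩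
  set D := H12.degree (E.mu s₀ : ↥(RG K m) → ℂ) with hDdef
  have hDs : ∀ s, D ≤ H12.degree (E.mu s : ↥(RG K m) → ℂ) := fun s => (E.degree_eq s₀ s).le
  have hD0 : 0 < D := H12.irr_degree_pos _
  have hd' : ∀ χ : IrrCharacter ↥(RG K m), χ ≠ H12.oneIrr ↥(RG K m) →
      qN m ≤ H12.degree (χ : ↥(RG K m) → ℂ) := fun χ hχ => degree_ge hK hm χ hχ
  have hcA := E.card_eq
  have hm8 : 8 ≤ E.m := by rcases hs with rfl | rfl <;> omega
  obtain ⟨heps, hnorm, hbsum⟩ := norm_cases hK E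
  have hqh := dvd_degree_qh hK hπ E hAd (by omega) s₀
  have hn' := E.dvd_of_b_zero E' hd s₀ (E.b_cross_eq_zero E' hd (by omega) s₀)
  have hcop : Nat.Coprime (qh m) (Nat.card A') :=
    Nat.Coprime.coprime_dvd_left ((hq2 ▸ dvd_mul_left (qh m) 2 : qh m ∣ 3 ^ (2 * m + 1) - 1).trans
      ((dvd_mul_left _ _).trans (dvd_mul_right _ _)))
      ((qN_coprime m).symm.coprime_dvd_right hAd')
  have hdvd : qh m * Nat.card A' ∣ D := hcop.mul_dvd_of_dvd_of_dvd hqh hn'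
  have ha : E.a = 0 := by
    by_contra h0
    have h1 : 1 ≤ E.a ^ 2 := by
      have : 0 < E.a ^ 2 := by positivity
      omega
    have h7 : (7 : ℤ) ≤ (E.m : ℤ) - 1 := by omega
    nlinarith [sq_nonneg (E.a - E.eps)]
  have hP : ∑ χ, E.b χ ^ 2 = ((5 : ℕ) : ℤ) + 1 := by rw [hbsum, ha]; ring_nf; rw [heps]; norm_num
  have hmod := E.deg_mod hA s₀
  rw [← hDdef, ha, zero_add] at hmod
  have hr2' : (rr m : ℤ) * (rr m : ℤ) = 3 * ((3 ^ (2 * m + 1) : ℕ) : ℤ) := by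
    rw [← sq]; exact_mod_cast hr2
  have hdZ : (qh m : ℤ) * (((3 ^ (2 * m + 1) : ℕ) : ℤ) - s + 1) ∣ (D : ℤ) := by
    rw [← hnA']; exact_mod_cast hdvd
  have hh : 2 * (qh m : ℤ) = ((3 ^ (2 * m + 1) : ℕ) : ℤ) - 1 := by omega
  have hLB := large_degree (q := ((3 ^ (2 * m + 1) : ℕ) : ℤ)) (r := (rr m : ℤ)) (s := s)
    (h := (qh m : ℤ)) (D := (D : ℤ)) (c := 6 * E.eps) (by exact_mod_cast hq243) hr2' (by omega) hs hh
    (by rw [← hnA, hcA]; exact ⟨3 * (E.m : ℤ), by push_cast; ring⟩)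
    (by exact_mod_cast hD0) hdZ (by rcases E.eps_cases with e | e <;> rw [e] <;> norm_num)
    (by rw [← hnA]; simpa using hmod)
  refine E.prodTwo hA hx hx1 hg1 hgA (d := qN m) (D := D) (Nat.succ_pos _) hD0 hd' hDs hP (by norm_num) ?_
  have hb := large_bound (q := ((3 ^ (2 * m + 1) : ℕ) : ℤ)) (r := (rr m : ℤ)) (s := s)
    (h := (qh m : ℤ)) (D := (D : ℤ))
    (cg := Nat.card ↥(Subgroup.centralizer ({g} : Set ↥(RG K m)))) (n := Nat.card A) (m := E.m)
    (by exact_mod_cast hq243) hr2' (by omega) hs hh hnA hcA hLB (by exact_mod_cast hD0)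
    (by exact_mod_cast hcg)
  generalize 3 ^ (2 * m + 1) = q at hN1 hb
  have hqNr : ((qN m : ℕ) : ℝ) = (q : ℝ) ^ 2 - (q : ℝ) + 1 := by
    have : ((qN m : ℕ) : ℝ) + (q : ℝ) = (q : ℝ) ^ 2 + 1 := by exact_mod_cast hN1
    linarith
  rw [hqNr]
  simp only [Int.cast_natCast, Nat.cast_ofNat] at hb ⊢
  exact hb

/-- Orders two and three, for an element of a Singer torus. -/
theorem prodTwo_torus (hπ : classInner (indFun (RBsub K m) (1 : ↥(RBsub K m) → ℂ))
      (indFun (RBsub K m) (1 : ↥(RBsub K m) → ℂ)) = 2) (hm : 1 ≤ m)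
    {x : ↥(RG K m)} (hx : x ^ qN m = 1) (hx1 : x ≠ 1) {g : ↥(RG K m)}
    (hg : orderOf g = 2 ∨ orderOf g = 3) : ProdTwo x g := by
  classical
  obtain ⟨A, A', E, E', hA, ⟨c, hc⟩, hd, hcards⟩ := exists_torus_exc hK hm hx hx1
  refine ProdTwo.conj_left (x' := c⁻¹ * x * c) (isConj_iff.2 ⟨c⁻¹, by group⟩) ?_
  have hx0 : c⁻¹ * x * c ≠ 1 := fun e => hx1 ((conj_eq_one' hK).1 e)
  obtain ⟨hr2, hrq, hq27⟩ := rr_facts m hm
  obtain ⟨-, hq2, -⟩ := q_arith m
  have hmul := pm_mul hK hm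
  have hAd : Nat.card A ∣ qN m ∧ Nat.card A' ∣ qN m := by
    rcases hcards with ⟨h1, h2⟩ | ⟨h1, h2⟩ <;> rw [h1, h2]
    · exact ⟨⟨_, hmul.symm.trans (mul_comm _ _)⟩, ⟨_, hmul.symm⟩⟩
    · exact ⟨⟨_, hmul.symm⟩, ⟨_, hmul.symm.trans (mul_comm _ _)⟩⟩
  have hg1 : g ≠ 1 := fun e => by rw [e, orderOf_one] at hg; omega
  have hgA : ¬ InA A g := by
    rintro ⟨-, d, hd'⟩
    apply hg1
    rw [← orderOf_eq_one_iff]
    refine Nat.eq_one_of_dvd_coprimes (qN_coprime m) ?_ ?_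
    · have := (Subgroup.orderOf_dvd_natCard _ hd').trans hAd.1
      rwa [show d * g * d⁻¹ = d⁻¹⁻¹ * g * d⁻¹ by group, orderOf_conj_inv hK] at this
    · rcases hg with e | e <;> rw [e]
      · exact dvd_mul_of_dvd_left (dvd_mul_of_dvd_right (hq2 ▸ dvd_mul_right _ _) _) _
      · exact dvd_mul_of_dvd_left (dvd_mul_of_dvd_left
          (dvd_pow (dvd_pow_self 3 (by omega)) (by norm_num)) _) _
  have hcg : Nat.card ↥(Subgroup.centralizer ({g} : Set ↥(RG K m))) ≤ (3 ^ (2 * m + 1)) ^ 3 := by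
    rcases hg with e | e
    · rw [cent_two hK hm e, pow_succ' (3 ^ (2 * m + 1)) 2]
      exact Nat.mul_le_mul_left _ (Nat.sub_le _ _)
    · exact cent_three hK e
  rcases Nat.lt_or_ge m 2 with hm2 | hm2
  · have hm1 : m = 1 := by omega
    refine prodTwo_small hK hπ hm1 E E' hA hd hAd.1 ?_ hc hx0 hg1 hgA (hcg.trans (by rw [hm1]; norm_num))
    subst hm1
    exact hcards
  · rcases hcards with ⟨h1, h2⟩ | ⟨h1, h2⟩
    · exact prodTwo_large hK hπ hm2 E E' hA hd hAd.1 hAd.2 (Or.inl rfl) (by omega) (by omega)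
        hc hx0 hg1 hgA hcg
    · exact prodTwo_large hK hπ hm2 E E' hA hd hAd.1 hAd.2 (Or.inr rfl) (by omega) (by omega)
        hc hx0 hg1 hgA hcg

end H53.ReeSq
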