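import Cfsg.Agent.H53.ReeSq.Cent
import Cfsg.Agent.H53.ReeSq.Basic
import Cfsg.Agent.H52.ReePoints
import Cfsg.Agent.H12.Induction

/-!
The permutation character on the cosets of the Borel subgroup of a small Ree group, and central
elements of the unipotent radical as products of two conjugates of a toral element.
-/

set_option autoImplicit false
set_option linter.unusedSectionVars false

open Cfsg
open scoped ComplexConjugate

namespace H53.ReeSq

open H52.Ree2 Cfsg.Lie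

/-- The character induced from the trivial character of `B`, as a count. -/
theorem indFun_one_count {G : Type*} [Group G] [Fintype G] (B : Subgroup G) (g : G) :
    indFun B (1 : B → ℂ) g =
      (Nat.card B : ℂ)⁻¹ * (Nat.card {x : G // x⁻¹ * g * x ∈ B} : ℂ) := by
  classical
  rw [H12.indFun_apply]
  congr 1
  rw [Nat.card_eq_fintype_card, Fintype.card_subtype, Finset.card_filter, Nat.cast_sum]
  refine Finset.sum_congr rfl fun x _ => ?_
  by_cases h : x⁻¹ * g * x ∈ B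
  · rw [H12.extendByZero_mk B _ h, if_pos h]; simp
  · rw [H12.extendByZero_of_notMem B _ h, if_neg h]; simp

variable {K : Type*} [Field K] [Fintype K] {m : ℕ} (hK : Fintype.card K = 3 ^ (2 * m + 1))
include hK

/-- A conjugate of `B` by an element outside `B` meets `B` in `q - 1` elements. -/
theorem card_inter_conj {x : ↥(RG K m)} (hx : x ∉ RBsub K m) :
    Nat.card {b : ↥(RBsub K m) // x⁻¹ * (b : ↥(RG K m)) * x ∈ RBsub K m} =
      3 ^ (2 * m + 1) - 1 := by
  rcases mk_cases hK x with h | ⟨u, hu, h⟩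
  · exfalso
    rw [QuotientGroup.eq, mul_one] at h
    exact hx (by simpa using inv_mem h)
  rw [QuotientGroup.eq] at h
  obtain ⟨b0, hb0, hbx⟩ : ∃ b0 ∈ RBsub K m, x = u * mR hK * b0 :=
    ⟨(x⁻¹ * (u * mR hK))⁻¹, inv_mem h, by group⟩
  have huB : u ∈ RBsub K m := Subgroup.mem_subgroupOf.2 (U_le_B hK hu)
  have key : ∀ b : ↥(RG K m), x⁻¹ * b * x ∈ RBsub K m ↔
      (mR hK)⁻¹ * (u⁻¹ * b * u) * mR hK ∈ RBsub K m := by
    intro b
    rw [hbx, show (u * mR hK * b0)⁻¹ * b * (u * mR hK * b0) =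
      b0⁻¹ * ((mR hK)⁻¹ * (u⁻¹ * b * u) * mR hK) * b0 by group,
      Subgroup.mul_mem_cancel_right _ hb0, Subgroup.mul_mem_cancel_left _ (inv_mem hb0)]
  have hmH : ∀ h ∈ HG K m, (mR hK)⁻¹ * h * mR hK ∈ RBsub K m := by
    intro h hh
    have hh' := Subgroup.mem_subgroupOf.1 hh
    rw [Subgroup.mem_subgroupOf]
    simp only [mR, Subgroup.coe_mul, Subgroup.coe_inv]
    have e := m_conj_H hK (inv_mem hh')
    rw [inv_inv] at e
    have e2 : (mEl K)⁻¹ * (h : GL chevG2.Idx K) * mEl K = (h : GL chevG2.Idx K)⁻¹ := by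
      calc (mEl K)⁻¹ * (h : GL chevG2.Idx K) * mEl K
          = (mEl K)⁻¹ * (mEl K * (h : GL chevG2.Idx K)⁻¹ * (mEl K)⁻¹) * mEl K := by rw [e]
        _ = _ := by group
    rw [e2]
    exact inv_mem (H_le_B' hK hh')
  have hHB : ∀ h ∈ HG K m, h ∈ RBsub K m := fun h hh =>
    Subgroup.mem_subgroupOf.2 (H_le_B' hK (Subgroup.mem_subgroupOf.1 hh))
  have hin : ∀ b ∈ RBsub K m, x⁻¹ * b * x ∈ RBsub K m → u⁻¹ * b * u ∈ HG K m := by
    intro b hb hxb
    rw [Subgroup.mem_subgroupOf]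
    refine mem_stab_two hK ?_ ?_
    · rw [stab_one hK]
      exact mul_mem (mul_mem (inv_mem huB) hb) huB
    · rw [mem_stab hK]
      exact Subgroup.mem_subgroupOf.1 ((key b).1 hxb)
  rw [← (HG_cyclic hK).2]
  refine Nat.card_congr
    { toFun := fun b => ⟨u⁻¹ * (b.1 : ↥(RG K m)) * u, hin _ b.1.2 b.2⟩
      invFun := fun h => ⟨⟨u * (h : ↥(RG K m)) * u⁻¹,
          mul_mem (mul_mem huB (hHB _ h.2)) (inv_mem huB)⟩, ?_⟩
      left_inv := fun b => Subtype.ext (Subtype.ext ?_)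
      right_inv := fun h => Subtype.ext ?_ }
  · rw [key]
    simpa [mul_assoc] using hmH _ h.2
  · dsimp; group
  · dsimp; group

variable [Fintype ↥(RG K m)]

/-- The permutation character on the cosets of `B` has norm two. -/
theorem perm_norm : classInner (indFun (RBsub K m) (1 : ↥(RBsub K m) → ℂ))
    (indFun (RBsub K m) (1 : ↥(RBsub K m) → ℂ)) = 2 := by
  classical
  set B := RBsub K m with hB
  haveI := Fintype.ofFinite ↥B
  have hB0 : (Nat.card ↥B : ℂ) ≠ 0 := Nat.cast_ne_zero.2 Nat.card_pos.ne'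
  rw [H12.classInner_indFun B _ (H12.indFun_isClassFunction B _), H12.classInner_def]
  simp only [Pi.one_apply, one_mul, indFun_one_count, map_mul, map_inv₀, Complex.conj_natCast,
    ← Finset.mul_sum, ← Nat.cast_sum]
  have hswap : ∑ b : ↥B, Nat.card {x : ↥(RG K m) // x⁻¹ * (b : ↥(RG K m)) * x ∈ B} =
      ∑ x : ↥(RG K m), Nat.card {b : ↥B // x⁻¹ * (b : ↥(RG K m)) * x ∈ B} := by
    simp only [Nat.card_eq_fintype_card, Fintype.card_subtype, Finset.card_filter]
    exact Finset.sum_comm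
  have hval : ∑ x : ↥(RG K m), Nat.card {b : ↥B // x⁻¹ * (b : ↥(RG K m)) * x ∈ B} =
      2 * Nat.card ↥B ^ 2 := by
    have h1 : (Finset.univ.filter fun x : ↥(RG K m) => x ∈ B).card = Nat.card ↥B := by
      rw [← Fintype.card_subtype, ← Nat.card_eq_fintype_card]
    have h2 := Finset.card_filter_add_card_filter_not (s := (Finset.univ : Finset ↥(RG K m)))
      (fun x : ↥(RG K m) => x ∈ B)
    rw [h1, Finset.card_univ, ← Nat.card_eq_fintype_card, ← B.card_mul_index, hB, index_RB hK,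
      mul_add, mul_one] at h2
    have h3 : (Finset.univ.filter fun x : ↥(RG K m) => x ∉ B).card =
        Nat.card ↥B * (3 ^ (2 * m + 1)) ^ 3 := by rw [hB]; omega
    have s1 : ∑ x ∈ Finset.univ.filter (fun x : ↥(RG K m) => x ∈ B),
        Nat.card {b : ↥B // x⁻¹ * (b : ↥(RG K m)) * x ∈ B} = Nat.card ↥B * Nat.card ↥B := by
      rw [Finset.sum_congr rfl (g := fun _ => Nat.card ↥B) fun x hx => ?_, Finset.sum_const,
        smul_eq_mul, h1]
      rw [Finset.mem_filter] at hx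
      exact Nat.card_congr (Equiv.subtypeUnivEquiv fun b =>
        mul_mem (mul_mem (inv_mem hx.2) b.2) hx.2)
    have s2 : ∑ x ∈ Finset.univ.filter (fun x : ↥(RG K m) => x ∉ B),
        Nat.card {b : ↥B // x⁻¹ * (b : ↥(RG K m)) * x ∈ B} = Nat.card ↥B * Nat.card ↥B := by
      rw [Finset.sum_congr rfl (g := fun _ => 3 ^ (2 * m + 1) - 1) fun x hx => ?_, Finset.sum_const,
        smul_eq_mul, h3, mul_assoc, hB, ← card_RB hK]
      rw [Finset.mem_filter] at hx
      exact card_inter_conj hK hx.2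
    rw [← Finset.sum_filter_add_sum_filter_not Finset.univ (fun x => x ∈ B), s1, s2]
    ring
  rw [hswap, hval]
  push_cast
  field_simp

/-- An element of `B` of order dividing three lies in `U`. -/
theorem exists_uG_of_cube {b : ↥(RG K m)} (hb : b ∈ RBsub K m) (h3 : b ^ 3 = 1) :
    (b : GL chevG2.Idx K) ∈ RU K m := by
  obtain ⟨t, u, v, a, rfl⟩ := mem_B_exists hK hb
  have hw : (uG hK t u v : GL chevG2.Idx K) ∈ RU K m := uW_mem_U hK t u v
  have hh : (hG hK a : GL chevG2.Idx K) ∈ RH K m := hA_mem hK a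
  have h3' : ((uG hK t u v : GL chevG2.Idx K) * (hG hK a : GL chevG2.Idx K)) ^ 3 = 1 := by
    rw [← Subgroup.coe_mul, ← SubgroupClass.coe_pow, h3, OneMemClass.coe_one]
  have hH : (hG hK (a * (a * a)) : GL chevG2.Idx K) ∈ RU K m ⊓ RH K m := by
    refine Subgroup.mem_inf.2 ⟨?_, hA_mem hK _⟩
    rw [← hG_mul, ← hG_mul, Subgroup.coe_mul, Subgroup.coe_mul]
    have key : ∀ w h : GL chevG2.Idx K,
        (w * (h * w * h⁻¹) * (h * h * w * (h * h)⁻¹)) * (h * (h * h)) = (w * h) ^ 3 := by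
      intro w h; rw [pow_succ, sq]; group
    rw [eq_inv_of_mul_eq_one_right ((key _ _).trans h3')]
    exact inv_mem (mul_mem (mul_mem hw (H_conj_U hK hh hw)) (H_conj_U hK (mul_mem hh hh) hw))
  rw [U_inf_H hK, Subgroup.mem_bot] at hH
  have ha3 : a * (a * a) = 1 := (hA_inj hK).1 (hH.trans (hA_one hK).symm)
  have ha : a = 1 := by
    apply Units.ext
    have h : (a : K) * ((a : K) * (a : K)) = 1 := by simpa using congrArg Units.val ha3
    have h0 : ((a : K) - 1) ^ 3 = 0 := by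
      linear_combination h + (-(a : K) * a + a) * three_eq_zero hK
    simpa [sub_eq_zero] using h0
  rw [ha, hG_one, mul_one]
  exact uW_mem_U hK t u v

/-- The permutation character at a central element of `U`. -/
theorem perm_v {v : K} (hv : v ≠ 0) :
    indFun (RBsub K m) (1 : ↥(RBsub K m) → ℂ) (uG hK 0 0 v) = 1 := by
  have hz : uG hK 0 0 v ≠ 1 := fun h => hv ((uG_eq_one hK).1 h).2.2
  have hzU : (uG hK 0 0 v : GL chevG2.Idx K) ∈ RU K m := uW_mem_U hK 0 0 v
  have hzB : uG hK 0 0 v ∈ RBsub K m := Subgroup.mem_subgroupOf.2 (U_le_B hK hzU)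
  suffices hiff : ∀ x : ↥(RG K m), x⁻¹ * uG hK 0 0 v * x ∈ RBsub K m ↔ x ∈ RBsub K m by
    rw [indFun_one_count, Nat.card_congr (Equiv.subtypeEquivRight hiff)]
    exact inv_mul_cancel₀ (Nat.cast_ne_zero.2 Nat.card_pos.ne')
  intro x
  refine ⟨fun hx => ?_, fun hx => mul_mem (mul_mem (inv_mem hx) hzB) hx⟩
  have h3 : uG hK 0 0 v ^ 3 = 1 := (uG_cube_eq_one hK).2 rfl
  have hU := exists_uG_of_cube hK hx (by
    rw [show x⁻¹ * uG hK 0 0 v * x = x⁻¹ * uG hK 0 0 v * x⁻¹⁻¹ by group, conj_pow, h3]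
    group)
  exact B_of_U_fusion hK x _ hU (fun e => hz ((conj_eq_one' hK).1 e)) (by
    rw [show x * (x⁻¹ * uG hK 0 0 v * x) * x⁻¹ = uG hK 0 0 v by group]; exact hzU)

/-- The permutation character vanishes at the toral elements of order greater than two. -/
theorem perm_L0 {x : ↥(RG K m)} (hx : x ∈ L0 hK) (hx2 : x * x ≠ 1) :
    indFun (RBsub K m) (1 : ↥(RBsub K m) → ℂ) x = 0 := by
  rw [indFun_one_count, mul_eq_zero]
  refine Or.inr (Nat.cast_eq_zero.2 (Nat.card_eq_zero.2 (Or.inl ?_)))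
  refine Subtype.isEmpty_of_false fun c hc => hx2 ?_
  obtain ⟨-, hq2, -, -, h3p, -, hco, -⟩ := q_arith m
  have h1 : orderOf x ∣ (3 ^ (2 * m + 1)) ^ 3 * (2 * qh m) := by
    have h := Subgroup.orderOf_dvd_natCard _ hc
    rwa [orderOf_conj_inv hK, card_RB hK, hq2] at h
  have h2 : orderOf x ∣ 2 * qp m := orderOf_dvd_of_pow_eq_one (L0_exp hK hx)
  have hc3 : Nat.Coprime (qp m) ((3 ^ (2 * m + 1)) ^ 3) :=
    (((Nat.coprime_comm.1 (Nat.prime_three.coprime_iff_not_dvd.2 h3p))).pow_right _).pow_right _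
  have hcop : Nat.Coprime (qp m) ((3 ^ (2 * m + 1)) ^ 3 * qh m) := hc3.mul_right hco
  have : orderOf x ∣ 2 := by
    rw [mul_left_comm] at h1
    have h := Nat.dvd_gcd h2 h1
    rwa [Nat.gcd_mul_left, hcop.gcd_eq_one, mul_one] at h
  rw [← sq]
  exact orderOf_dvd_iff_pow_eq_one.1 this

/-- The Steinberg character. -/
theorem exists_steinberg : ∃ ψ : IrrCharacter ↥(RG K m), ψ ≠ H12.oneIrr ↥(RG K m) ∧
    ∀ g, (ψ : ↥(RG K m) → ℂ) g = indFun (RBsub K m) (1 : ↥(RBsub K m) → ℂ) g - 1 := by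
  classical
  set B := RBsub K m with hB
  haveI := Fintype.ofFinite ↥B
  set p := indFun B (1 : ↥B → ℂ) with hp
  set o : IrrCharacter ↥(RG K m) := H12.oneIrr _ with ho
  have hpc : IsCharacter ↥(RG K m) p := H12.IsCharacter.indFun (H12.isCharacter_one (G := ↥B))
  have hp1 : classInner p (o : ↥(RG K m) → ℂ) = 1 := by
    rw [hp, H12.classInner_indFun B _ (H12.irr_isClassFunction o), H12.classInner_def]
    simp only [Pi.one_apply, ho, H12.oneIrr_apply, map_one, mul_one, Finset.sum_const,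
      Finset.card_univ, nsmul_eq_mul, ← Nat.card_eq_fintype_card]
    exact inv_mul_cancel₀ (Nat.cast_ne_zero.2 Nat.card_pos.ne')
  have hf : IsCharacter ↥(RG K m) (p - (o : ↥(RG K m) → ℂ)) := by
    refine H12.isCharacter_iff.2 ⟨H12.IsClassFunction.sub (H12.IsCharacter.isClassFunction hpc)
      (H12.irr_isClassFunction o), fun χ => ?_⟩
    rw [H12.classInner_sub_left, H12.classInner_irr]
    split_ifs with h
    · exact ⟨0, by rw [← h, hp1]; simp⟩
    · obtain ⟨n, hn⟩ := H12.IsCharacter.classInner_nat hpc (H12.isCharacter_irr χ)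
      exact ⟨n, by rw [hn, sub_zero]⟩
  have hn : classInner (p - (o : ↥(RG K m) → ℂ)) (p - (o : ↥(RG K m) → ℂ)) = 1 := by
    have hp1' : classInner (o : ↥(RG K m) → ℂ) p = 1 := by
      rw [← H12.conj_classInner, hp1, map_one]
    rw [H12.classInner_sub_left, H12.classInner_sub_right, H12.classInner_sub_right,
      H12.classInner_irr_self, hp1, hp1', hp, hB, perm_norm hK]
    norm_num
  refine ⟨⟨_, H12.isIrrCharacter_of_classInner_self_eq_one hf hn⟩, fun e => ?_, fun g => rfl⟩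
  have e1 := congrFun (congrArg Subtype.val e) 1
  simp only [Pi.sub_apply, hp, H12.indFun_one, ho, H12.oneIrr_apply, Pi.one_apply, mul_one, hB,
    index_RB hK] at e1
  push_cast at e1
  have : ((3 ^ (2 * m + 1)) ^ 3 : ℕ) = (1 : ℕ) := by
    apply Nat.cast_injective (R := ℂ)
    push_cast
    linear_combination e1
  have h3 : 3 ≤ 3 ^ (2 * m + 1) := Nat.le_self_pow (by omega) 3
  nlinarith [Nat.le_self_pow (show 3 ≠ 0 by omega) (3 ^ (2 * m + 1))]

/-- The subgroup of elements `uG 0 0 v`. -/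
noncomputable def zSub (hK : Fintype.card K = 3 ^ (2 * m + 1)) : Subgroup ↥(RG K m) where
  carrier := Set.range fun v => uG hK 0 0 v
  one_mem' := ⟨0, (uG_eq_one hK).2 ⟨rfl, rfl, rfl⟩⟩
  mul_mem' := by
    rintro _ _ ⟨v, rfl⟩ ⟨w, rfl⟩
    exact ⟨v + w, by rw [uG_mul, uG_inj hK]; simp⟩
  inv_mem' := by
    rintro _ ⟨v, rfl⟩
    refine ⟨-v, eq_inv_of_mul_eq_one_left ?_⟩
    rw [uG_mul, uG_eq_one hK]
    simp

/-- All nontrivial elements `uG 0 0 v` are conjugate. -/
theorem isConj_v {v : K} (hv : v ≠ 0) : IsConj (uG hK 0 0 1) (uG hK 0 0 v) := by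
  have hb : Function.Bijective fun a : Kˣ => a ^ (3 + 2 * 3 ^ (m + 1)) := by
    refine Finite.injective_iff_bijective.1 fun a b hab => ?_
    replace hab : a ^ (3 + 2 * 3 ^ (m + 1)) = b ^ (3 + 2 * 3 ^ (m + 1)) := hab
    refine mul_inv_eq_one.1 (units_pow_v hK ?_)
    rw [mul_pow, inv_pow, hab, mul_inv_cancel]
  obtain ⟨a, ha⟩ := hb.2 (Units.mk0 v hv)
  refine isConj_iff.2 ⟨hG hK a, ?_⟩
  rw [hG_conj, mul_inv_cancel_right, uG_inj hK]
  refine ⟨mul_zero _, mul_zero _, ?_⟩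
  have := congrArg Units.val ha
  simp only [Units.val_pow_eq_pow_val, Units.val_mk0] at this
  rw [this, mul_one]

theorem not_isConj_v {x : ↥(RG K m)} (hx2 : x * x ≠ 1) (hx : x ∈ L0 hK) (v : K) :
    ¬ IsConj x (uG hK 0 0 v) := by
  intro h
  obtain ⟨c, hc⟩ := isConj_iff.1 h
  obtain ⟨-, -, -, -, h3p, -, -, -⟩ := q_arith m
  have h2 : orderOf x ∣ 2 * qp m := orderOf_dvd_of_pow_eq_one (L0_exp hK hx)
  have h3 : orderOf x ∣ 3 := by
    apply orderOf_dvd_of_pow_eq_one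
    have e := congrArg (fun y => y ^ 3) hc
    simp only [conj_pow, (uG_cube_eq_one hK (t := (0 : K)) (u := 0) (v := v)).2 rfl] at e
    exact conj_eq_one_iff.1 e
  have hd := Nat.dvd_gcd h2 h3
  have hco : Nat.Coprime (2 * qp m) 3 :=
    Nat.Coprime.mul_left (by norm_num)
      (Nat.coprime_comm.1 (Nat.prime_three.coprime_iff_not_dvd.2 h3p))
  rw [hco.gcd_eq_one, Nat.dvd_one, orderOf_eq_one_iff] at hd
  exact hx2 (by rw [hd, one_mul])

/-- A central element of `U` is a product of two conjugates of a real toral element. -/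
theorem prodTwo_center (hm : 1 ≤ m) {x : ↥(RG K m)} (hx : x ∈ L0 hK) (hx2 : x * x ≠ 1)
    (hreal : IsConj x x⁻¹) : ProdTwo x (uG hK 0 0 1) := by
  classical
  by_contra hno
  obtain ⟨q, hq⟩ : ∃ q, q = 3 ^ (2 * m + 1) := ⟨_, rfl⟩
  have hq0 : (q : ℂ) ≠ 0 := Nat.cast_ne_zero.2 (by rw [hq]; positivity)
  have hcr : ∀ χ : IrrCharacter ↥(RG K m),
      conj ((χ : ↥(RG K m) → ℂ) x) = (χ : ↥(RG K m) → ℂ) x := fun χ => by
    rw [← H12.irr_inv χ x]
    exact (H12.IsClassFunction.of_isConj (H12.irr_isClassFunction χ) hreal).symm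
  have hzero : ∀ v : K, v ≠ 0 → ∑ χ : IrrCharacter ↥(RG K m),
      (χ : ↥(RG K m) → ℂ) x * (χ : ↥(RG K m) → ℂ) x *
        conj ((χ : ↥(RG K m) → ℂ) (uG hK 0 0 v)) / (χ : ↥(RG K m) → ℂ) 1 = 0 := by
    intro v hv
    by_contra hne
    obtain ⟨a, ha⟩ := isConj_iff.1 (isConj_v hK hv).symm
    have h := (ProdTwo.of_sum hne).conj a
    rw [ha] at h
    exact hno h
  have hcx : (Nat.card ↥(Subgroup.centralizer ({x} : Set ↥(RG K m))) : ℂ) = (q : ℂ) + 1 := by
    rw [centralizer_L0 hK hm hx hx2, L0_card hK, ← (q_arith m).1, hq]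
    push_cast
    ring
  have hsq : ∑ χ : IrrCharacter ↥(RG K m),
      (χ : ↥(RG K m) → ℂ) x * (χ : ↥(RG K m) → ℂ) x = (q : ℂ) + 1 := by
    have h := H12.column_orthogonality x x
    rw [if_pos (IsConj.refl x), hcx] at h
    rw [← h]
    exact Finset.sum_congr rfl fun χ _ => by rw [hcr]
  -- averages over the central subgroup
  haveI := Fintype.ofFinite ↥(zSub hK)
  let e : K ≃ ↥(zSub hK) := Equiv.ofBijective (fun v => ⟨uG hK 0 0 v, v, rfl⟩)
    ⟨fun v w h => ((uG_inj hK).1 (congrArg Subtype.val h)).2.2,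
      fun ⟨y, v, hy⟩ => ⟨v, Subtype.ext hy⟩⟩
  have hnat : ∀ χ : IrrCharacter ↥(RG K m), ∃ n : ℕ,
      ∑ v : K, (χ : ↥(RG K m) → ℂ) (uG hK 0 0 v) = (q : ℂ) * n := by
    intro χ
    obtain ⟨n, hn⟩ := H24.sum_subgroup_eq (H12.isCharacter_irr χ) (zSub hK)
    refine ⟨n, ?_⟩
    rw [← Nat.card_congr e, card_K hK, ← hq] at hn
    rw [← hn]
    exact Fintype.sum_equiv e _ _ fun v => rfl
  choose n hn using hnat
  have huz : uG hK 0 0 (0 : K) = 1 := (uG_eq_one hK).2 ⟨rfl, rfl, rfl⟩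
  -- the summed structure constant identity
  have hS : ∑ χ : IrrCharacter ↥(RG K m), (χ : ↥(RG K m) → ℂ) x * (χ : ↥(RG K m) → ℂ) x *
      ((q : ℂ) * n χ) / (χ : ↥(RG K m) → ℂ) 1 = (q : ℂ) + 1 := by
    have h1 : ∀ χ : IrrCharacter ↥(RG K m),
        ((q : ℂ) * n χ) = ∑ v : K, conj ((χ : ↥(RG K m) → ℂ) (uG hK 0 0 v)) := fun χ => by
      rw [← map_sum, hn χ, map_mul, Complex.conj_natCast, Complex.conj_natCast]
    simp only [h1, Finset.mul_sum, Finset.sum_div]
    rw [Finset.sum_comm, Finset.sum_eq_single (0 : K) (fun v _ hv => hzero v hv) (by simp), huz]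
    rw [← hsq]
    refine Finset.sum_congr rfl fun χ _ => ?_
    rw [H12.irr_apply_one χ, Complex.conj_natCast,
      mul_div_cancel_right₀ _ (Nat.cast_ne_zero.2 (H12.irr_degree_pos χ).ne')]
  have hL : ∑ χ : IrrCharacter ↥(RG K m), (χ : ↥(RG K m) → ℂ) x * ((q : ℂ) * n χ) = 0 := by
    simp only [← hn, Finset.mul_sum]
    rw [Finset.sum_comm]
    refine Finset.sum_eq_zero fun v _ => ?_
    have h := H12.column_orthogonality (uG hK 0 0 v) x
    rw [if_neg fun h => not_isConj_v hK hx2 hx v h.symm] at h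
    rw [← h]
    exact Finset.sum_congr rfl fun χ _ => by rw [hcr, mul_comm]
  -- the two constituents of the permutation character
  obtain ⟨ψ, hψ1, hψ⟩ := exists_steinberg hK
  set o : IrrCharacter ↥(RG K m) := H12.oneIrr _ with ho
  have hψx : (ψ : ↥(RG K m) → ℂ) x = -1 := by rw [hψ, perm_L0 hK hx hx2]; simp
  have hψ0 : (ψ : ↥(RG K m) → ℂ) 1 = (q : ℂ) ^ 3 := by
    haveI := Fintype.ofFinite ↥(RBsub K m)
    rw [hψ, H12.indFun_one, index_RB hK, Pi.one_apply, hq]
    push_cast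
    ring
  have hψn : (q : ℂ) * n ψ = (q : ℂ) ^ 3 := by
    rw [← hn ψ, Finset.sum_eq_single (0 : K) (fun v _ hv => by rw [hψ, perm_v hK hv, sub_self])
      (by simp), huz, hψ0]
  have hon : (q : ℂ) * n o = (q : ℂ) := by
    rw [← hn o]
    simp [ho, H12.oneIrr_apply, hK, hq]
  -- all other constituents vanish
  set T := ((Finset.univ : Finset (IrrCharacter ↥(RG K m))).erase o).erase ψ with hT
  have hsplit : ∀ f : IrrCharacter ↥(RG K m) → ℂ,
      ∑ χ, f χ = f o + (f ψ + ∑ χ ∈ T, f χ) := fun f => by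
    rw [← Finset.add_sum_erase _ _ (Finset.mem_univ o),
      ← Finset.add_sum_erase _ _ (Finset.mem_erase.2 ⟨hψ1, Finset.mem_univ ψ⟩)]
  rw [hsplit, hψx, hψn, hψ0] at hS
  rw [hsplit, hψx, hψn] at hL
  simp only [ho, H12.oneIrr_apply] at hS hL
  rw [← ho, hon] at hS hL
  have hrest : ∀ χ ∈ T, (χ : ↥(RG K m) → ℂ) x * ((q : ℂ) * n χ) = 0 := by
    have hre : ∀ χ : IrrCharacter ↥(RG K m),
        (((χ : ↥(RG K m) → ℂ) x).re : ℂ) = (χ : ↥(RG K m) → ℂ) x := fun χ =>
      Complex.conj_eq_iff_re.1 (hcr χ)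
    have h0 : ∑ χ ∈ T, ((χ : ↥(RG K m) → ℂ) x).re ^ 2 * ((q : ℝ) * n χ) /
        (H12.degree (χ : ↥(RG K m) → ℂ) : ℝ) = 0 := by
      apply Complex.ofReal_injective
      push_cast
      simp only [hre, sq, ← H12.irr_apply_one]
      have hq3 : (q : ℂ) ^ 3 ≠ 0 := pow_ne_zero _ hq0
      rw [neg_mul_neg, one_mul, one_mul, one_mul, div_one, div_self hq3] at hS
      linear_combination hS
    intro χ hχ
    have hterm := (Finset.sum_eq_zero_iff_of_nonneg fun χ _ => by positivity).1 h0 χ hχ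
    rw [div_eq_zero_iff, mul_eq_zero] at hterm
    rcases hterm with (h | h) | h
    · rw [pow_eq_zero_iff two_ne_zero] at h
      rw [← hre χ, h, Complex.ofReal_zero, zero_mul]
    · have : (n χ : ℝ) = 0 := (mul_eq_zero.1 h).resolve_left (Nat.cast_ne_zero.2 (by rw [hq]; positivity))
      simp [Nat.cast_eq_zero.1 this]
    · exact absurd h (Nat.cast_ne_zero.2 (H12.irr_degree_pos χ).ne')
  rw [Finset.sum_eq_zero hrest] at hL
  have h27 : (1 : ℕ) * q = q ^ 3 := by
    apply Nat.cast_injective (R := ℂ)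
    push_cast
    linear_combination hL
  have h3 : 3 ≤ q := hq ▸ Nat.le_self_pow (by omega) 3
  nlinarith [mul_le_mul h3 h3 (by norm_num) (by omega)]

end H53.ReeSq
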